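import Cfsg.Agent.H480.Ore.BFiType
import Cfsg.Agent.H6.QO.Frame
import Cfsg.Agent.H827.Trans

/-!
# 2.B over the class 3A (helper480; piece P7 of the row 2.B of S2491, S2492)

`x` of order three in `C(t₀)`, `FiType t₀ x`; `C(x, t₀) ≥ ⟨x⟩ × K`, `K ≅ 2.Fi22`, `t₀ ∈ K`.

* `comm_z` : `a b` is a commutator of `C(a, b)` in `Fi24'` (octad and triple transitivity);
* `all_KK` : every element of `K` is a commutator in `K`, if every noncentral element of `2.Fi22` is;
* `three_A_cover` : for a 2-element `u` of `C(x, t₀)` : `u x` is a commutator in `C(t₀)` or its image has a centralizer of order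
  at most `7357464576`.
-/

set_option autoImplicit false
set_option maxRecDepth 100000

namespace Cfsg.Agent.H480.QS

open Cfsg Cfsg.Agent.H849.ThreeNorm Cfsg.Agent.H480.Ore
open Cfsg.Agent.R08 Cfsg.Agent.R08.FiTwentyFour Cfsg.Agent.R08.TetFi24A
open Cfsg.Spor (Fi24)
open Cfsg.Agent.H777.Ore (IsC AllC)
open Cfsg.Agent.H6.QO (RowN NC)
open Cfsg.Agent.H51.Mult (PCE)
open Subgroup (centralizer mem_centralizer_singleton_iff zpowers center)

/-! ### `a b` is a commutator -/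

theorem comm_z {a b : Fi24} (P : At a b) : ∃ u v : Cab a b, u * v * u⁻¹ * v⁻¹ = P.z := by
  obtain ⟨a0, b0, c0, -, ht, -⟩ := Cfsg.Agent.R01.Strong.tFacts.four
  obtain ⟨c, Hc, rfl⟩ := P.exists_x ht.mx
  obtain ⟨d, Hd, rfl⟩ := P.exists_x ht.my
  obtain ⟨e, He, rfl⟩ := P.exists_x ht.mw
  have cd := (P.comm_iff _ _).1 ht.cxy
  have ce := (P.comm_iff _ _).1 ht.cxw
  have de := (P.comm_iff _ _).1 ht.cyw
  have ncd := P.ne_of ht.xy
  have nce := P.ne_of ht.xw
  have nde := P.ne_of ht.yw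
  obtain ⟨u, v, w, hx⟩ := Cfsg.Agent.R01.Strong.tFacts.hex _ _ _ ht
  obtain ⟨f, Hf, rfl⟩ := P.exists_x hx.t'.mx
  obtain ⟨g, Hg, rfl⟩ := P.exists_x hx.t'.my
  obtain ⟨h, Hh, rfl⟩ := P.exists_x hx.t'.mw
  have fg := (P.comm_iff _ _).1 hx.t'.cxy
  have fh := (P.comm_iff _ _).1 hx.t'.cxw
  have gh := (P.comm_iff _ _).1 hx.t'.cyw
  have cf := (P.comm_iff _ _).1 hx.caa
  have cg := (P.comm_iff _ _).1 hx.cab
  have ch := (P.comm_iff _ _).1 hx.cac
  have df := (P.comm_iff _ _).1 hx.cba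
  have dg := (P.comm_iff _ _).1 hx.cbb
  have dh := (P.comm_iff _ _).1 hx.cbc
  have ef := (P.comm_iff _ _).1 hx.cca
  have eg := (P.comm_iff _ _).1 hx.ccb
  have eh := (P.comm_iff _ _).1 hx.ccc
  have nfg := P.ne_of hx.t'.xy
  have nfh := P.ne_of hx.t'.xw
  have ngh := P.ne_of hx.t'.yw
  have ncf := P.ne_of hx.aa
  have ncg := P.ne_of hx.ab
  have nch := P.ne_of hx.ac
  have ndf := P.ne_of hx.ba
  have ndg := P.ne_of hx.bb
  have ndh := P.ne_of hx.bc
  have nef := P.ne_of hx.ca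
  have neg := P.ne_of hx.cb
  have neh := P.ne_of hx.cc
  have hprod : ((P.x Hc * P.x Hd * (P.x He * P.x Hf) * (P.x Hg * P.x Hh) : Cab a b) : Fi24) =
      c * d * (e * f) * (g * h) := by
    rw [Subgroup.coe_mul, Subgroup.coe_mul, P.x_mul, P.x_mul, P.x_mul]
  have h1 : P.π (P.x Hc * P.x Hd * (P.x He * P.x Hf) * (P.x Hg * P.x Hh)) = 1 := by
    rw [← hx.prod]
    simp only [map_mul, mul_assoc]
  have hz : P.x Hc * P.x Hd * (P.x He * P.x Hf) * (P.x Hg * P.x Hh) = P.z := by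
    rcases (P.lift.ext.ker _).1 h1 with h2 | h2
    · exfalso
      have h3 : c * d * (e * f) * (g * h) = 1 := by rw [← hprod, h2]; rfl
      apply TetFi24A.six Hc.hc Hd.hc He.hc Hf.hc Hg.hc Hh.hc ncd nce nde nfg nfh ngh ncf ncg nch ndf ndg ndh nef
        neg neh cd ce de fg fh gh cf cg ch df dg dh ef eg eh
      have h4 : f * g * h * (f * g * h) = 1 := by
        have e1 : f * g * h = h * (f * g) := (fh.mul_left gh).eq
        calc f * g * h * (f * g * h) = f * g * (h * h) * (f * g) := by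
              conv_lhs => rw [show f * g * h * (f * g * h) = f * g * h * (h * (f * g)) by rw [← e1]]
              group
          _ = f * g * (f * g) := by rw [sq Hh.hc, mul_one]
          _ = f * g * (g * f) := by rw [fg.eq]
          _ = f * (g * g) * f := by group
          _ = 1 := by rw [sq Hg.hc, mul_one, sq Hf.hc]
      apply mul_right_cancel (b := f * g * h)
      rw [h4, ← h3]
      group
    · exact h2
  obtain ⟨y, hy1, hy2, hy3⟩ := Cfsg.Agent.R01.Strong.tFacts.tri _ _ _ _ _ _ ht hx.t'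
  obtain ⟨n, rfl⟩ := P.lift.ext.surj y
  have k1 := Cfsg.Agent.H827.Trans.conj_x P n Hc Hf hy1
  have k2 := Cfsg.Agent.H827.Trans.conj_x P n Hd Hg hy2
  have k3 := Cfsg.Agent.H827.Trans.conj_x P n He Hh hy3
  obtain ⟨-, n1, n2⟩ := mem_Cab.1 n.2
  have na : (n : Fi24) * a * (n : Fi24)⁻¹ = a := mul_inv_eq_iff_eq_mul.2 n1
  refine ⟨P.x Hc * P.x Hd * P.x He, n, ?_⟩
  apply Subtype.ext
  have hz' : c * d * (e * f) * (g * h) = a * b := by rw [← hprod, hz, P.hz]
  rw [P.hz]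
  simp only [Subgroup.coe_mul, Subgroup.coe_inv, P.coe_x]
  have ac : Commute a c := Hc.ca.symm
  have ad : Commute a d := Hd.ca.symm
  have ae : Commute a e := He.ca.symm
  have af : Commute a f := Hf.ca.symm
  have ag : Commute a g := Hg.ca.symm
  have ah : Commute a h := Hh.ca.symm
  have aa : a * a = 1 := P.aa
  have X : a * c * (a * d) * (a * e) = a * (c * d * e) := by
    calc a * c * (a * d) * (a * e) = a * (c * a) * (d * a) * e := by group
      _ = a * (a * c) * (a * d) * e := by rw [ac.eq, ad.eq]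
      _ = (a * a) * (c * a) * d * e := by group
      _ = (a * a) * (a * c) * d * e := by rw [ac.eq]
      _ = a * (c * d * e) := by rw [aa]; group
  have Y : (n : Fi24) * (a * (c * d * e))⁻¹ * (n : Fi24)⁻¹ = (f * g * h)⁻¹ * a := by
    have e1 : (n : Fi24) * (a * (c * d * e)) * (n : Fi24)⁻¹ = a * (f * g * h) := by
      calc (n : Fi24) * (a * (c * d * e)) * (n : Fi24)⁻¹ = ((n : Fi24) * a * (n : Fi24)⁻¹) *
            (((n : Fi24) * c * (n : Fi24)⁻¹) * ((n : Fi24) * d * (n : Fi24)⁻¹) * ((n : Fi24) * e * (n : Fi24)⁻¹)) := by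
            group
        _ = _ := by rw [na, k1, k2, k3]
    have e2 : (n : Fi24) * (a * (c * d * e))⁻¹ * (n : Fi24)⁻¹ = ((n : Fi24) * (a * (c * d * e)) * (n : Fi24)⁻¹)⁻¹ := by
      group
    rw [e2, e1, mul_inv_rev]
    congr 1
    exact inv_eq_of_mul_eq_one_left aa
  have Z : (f * g * h)⁻¹ = f * g * h := by
    apply inv_eq_of_mul_eq_one_left
    have e1 : f * g * h = h * (f * g) := (fh.mul_left gh).eq
    calc f * g * h * (f * g * h) = f * g * h * (h * (f * g)) := by rw [← e1]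
      _ = f * g * (h * h) * (f * g) := by group
      _ = f * g * (f * g) := by rw [sq Hh.hc, mul_one]
      _ = f * g * (g * f) := by rw [fg.eq]
      _ = f * (g * g) * f := by group
      _ = 1 := by rw [sq Hg.hc, mul_one, sq Hf.hc]
  have W : Commute a (c * d * e * (f * g * h)) :=
    ((ac.mul_right ad).mul_right ae).mul_right ((af.mul_right ag).mul_right ah)
  rw [X]
  calc a * (c * d * e) * (n : Fi24) * (a * (c * d * e))⁻¹ * (n : Fi24)⁻¹
        = a * (c * d * e) * ((n : Fi24) * (a * (c * d * e))⁻¹ * (n : Fi24)⁻¹) := by group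
    _ = a * (c * d * e * (f * g * h)) * a := by rw [Y, Z]; group
    _ = (c * d * e * (f * g * h)) * (a * a) := by rw [W.eq]; group
    _ = c * d * (e * f) * (g * h) := by rw [aa]; group
    _ = a * b := hz'

section abs

variable {G : Type*} [Group G] {x r : G} {π : centralizer ({x} : Set G) →* ↥(_root_.commutator Fi24)}
  (D : Data x r π)
include D

theorem exists_K' [Finite G] {t : G} (htx : t * x = x * t) (htt : t * t = 1) {a b : Fi24} (P : TetFi24A.At a b)
    (hτ : (π ⟨t, mem_centralizer_singleton_iff.2 htx⟩ : Fi24) = a * b) :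
    ∃ (i : G) (κ : ↥(KK x i t) →* ↥(Cab a b)), i * i = 1 ∧ i * x * i⁻¹ = x⁻¹ ∧ i * t = t * i ∧ Function.Bijective κ ∧
      (∀ k : ↥(KK x i t), (κ k : Fi24) = π ⟨k, mem_centralizer_singleton_iff.2 (mem_KK.1 k.2).1⟩) ∧
      (∀ k, P.π (κ k) = 1 ↔ (k : G) = 1 ∨ (k : G) = t) ∧
      (∀ c d : G, c * x = x * c → c * t = t * c → d * x = x * d → d * t = t * d →
        (¬ ∃ (m : ℤ) (k : ↥(KK x i t)), c = x ^ m * k) → (¬ ∃ (m : ℤ) (k : ↥(KK x i t)), d = x ^ m * k) →
        ∃ (m : ℤ) (k : ↥(KK x i t)), c * d = x ^ m * k) ∧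
      (∀ c : G, c * x = x * c → c * t = t * c → (∀ k : ↥(KK x i t), c * k * c⁻¹ = k ∨ c * k * c⁻¹ = t * k) →
        ∃ (m : ℤ) (k : ↥(KK x i t)), c = x ^ m * k) := by
  obtain ⟨n, hn⟩ := (au_surj D).1 (MulAut.conjNormal b)
  obtain ⟨hii, hix⟩ := inv_of_au D P.hb hn
  -- `i` commutes with `t`
  have htN : t ∈ N x := cent_le (mem_centralizer_singleton_iff.2 htx)
  have hau : D.auHom (⟨t, htN⟩ * n) = MulAut.conjNormal a := by
    rw [map_mul, hn, au_of_mem D ⟨t, htN⟩ (mem_centralizer_singleton_iff.2 htx), hτ, ← map_mul, mul_assoc, sq P.hb,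
      mul_one]
  obtain ⟨hti, -⟩ := inv_of_au D P.ha hau
  have hti' : t * (n : G) * (t * n) = 1 := hti
  obtain ⟨i, hi⟩ : ∃ i : G, i = n := ⟨_, rfl⟩
  rw [← hi] at hii hix hti'
  have hiinv : i⁻¹ = i := inv_eq_of_mul_eq_one_left hii
  have htinv : t⁻¹ = t := inv_eq_of_mul_eq_one_left htt
  have hit : i * t = t * i := by
    have h1 : t * i = (t * i)⁻¹ := eq_inv_of_mul_eq_one_left hti'
    rw [h1, mul_inv_rev, hiinv, htinv]
  have h3k : ∀ k : ℤ, x ^ (3 * k) = 1 := fun k => by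
    rw [zpow_mul, show ((3 : ℤ)) = ((3 : ℕ) : ℤ) by norm_num, zpow_natCast, ← D.ord, pow_orderOf_eq_one, one_zpow]
  -- the map `C(x) → Fi24`
  have hcj : ∀ (g : G) (hg : g * x = x * g), ∃ hg' : (i * g * i⁻¹) * x = x * (i * g * i⁻¹),
      (π ⟨i * g * i⁻¹, mem_centralizer_singleton_iff.2 hg'⟩ : Fi24) =
        b * π ⟨g, mem_centralizer_singleton_iff.2 hg⟩ * b⁻¹ := by
    intro g hg
    have h1 := (cj D.ord n ⟨g, mem_centralizer_singleton_iff.2 hg⟩).2
    have h2 : D.au n (π ⟨g, mem_centralizer_singleton_iff.2 hg⟩) = _ := D.au_apply n _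
    have h3 : D.au n = MulAut.conjNormal b := hn
    rw [h3] at h2
    have h4 := congrArg Subtype.val h2
    rw [MulAut.conjNormal_apply] at h4
    subst hi
    exact ⟨mem_centralizer_singleton_iff.1 h1, h4.symm⟩
  have hker : ∀ (g : G) (hg : g * x = x * g), (π ⟨g, mem_centralizer_singleton_iff.2 hg⟩ : Fi24) = 1 ↔
      ∃ m : ℤ, g = x ^ m := by
    intro g hg
    have h1 := D.ker ⟨g, mem_centralizer_singleton_iff.2 hg⟩
    constructor
    · intro h2
      obtain ⟨m, hm⟩ := Subgroup.mem_zpowers_iff.1 (h1.1 (Subtype.ext h2))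
      exact ⟨m, hm.symm⟩
    · rintro ⟨m, hm⟩
      exact congrArg Subtype.val (h1.2 (Subgroup.mem_zpowers_iff.2 ⟨m, hm.symm⟩))
  have hmul : ∀ (g h : G) (hg : g * x = x * g) (hh : h * x = x * h) (hgh : g * h * x = x * (g * h)),
      (π ⟨g * h, mem_centralizer_singleton_iff.2 hgh⟩ : Fi24) =
        (π ⟨g, mem_centralizer_singleton_iff.2 hg⟩ : Fi24) * π ⟨h, mem_centralizer_singleton_iff.2 hh⟩ := by
    intro g h hg hh hgh
    have h1 : (⟨g * h, mem_centralizer_singleton_iff.2 hgh⟩ : centralizer ({x} : Set G)) =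
        ⟨g, mem_centralizer_singleton_iff.2 hg⟩ * ⟨h, mem_centralizer_singleton_iff.2 hh⟩ := rfl
    rw [h1, map_mul]
    rfl
  have hinv : ∀ (g : G) (hg : g * x = x * g) (hg' : g⁻¹ * x = x * g⁻¹),
      (π ⟨g⁻¹, mem_centralizer_singleton_iff.2 hg'⟩ : Fi24) =
        (π ⟨g, mem_centralizer_singleton_iff.2 hg⟩ : Fi24)⁻¹ := by
    intro g hg hg'
    have h1 : (⟨g⁻¹, mem_centralizer_singleton_iff.2 hg'⟩ : centralizer ({x} : Set G)) =
        ⟨g, mem_centralizer_singleton_iff.2 hg⟩⁻¹ := rfl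
    rw [h1, map_inv]
    rfl
  -- `g` commutes with `x`, `g'` has the same image: `g = x ^ m * g'`
  have hsame : ∀ (g g' : G) (hg : g * x = x * g) (hg' : g' * x = x * g'),
      (π ⟨g, mem_centralizer_singleton_iff.2 hg⟩ : Fi24) = π ⟨g', mem_centralizer_singleton_iff.2 hg'⟩ →
        ∃ m : ℤ, g = x ^ m * g' := by
    intro g g' hg hg' h
    have h1 : g'⁻¹ * x = x * g'⁻¹ := (show Commute g' x from hg').inv_left
    have h2 : g * g'⁻¹ * x = x * (g * g'⁻¹) := by rw [mul_assoc, h1, ← mul_assoc, hg, mul_assoc]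
    obtain ⟨m, hm⟩ := (hker (g * g'⁻¹) h2).1 (by rw [hmul g g'⁻¹ hg h1 h2, hinv g' hg' h1, h, mul_inv_cancel])
    exact ⟨m, by rw [← hm, inv_mul_cancel_right]⟩
  have hxi : ∀ m : ℤ, i * x ^ m * i⁻¹ = (x ^ m)⁻¹ := fun m => by rw [← conj_zpow, hix, inv_zpow]
  have hxt : ∀ m : ℤ, t * x ^ m = x ^ m * t := fun m => (show Commute t x from htx).zpow_right m
  have hxx : ∀ m : ℤ, x ^ m * x = x * x ^ m := fun m => (Commute.refl x).zpow_left m
  -- commuting with `t`
  have hct : ∀ (g : G) (hg : g * x = x * g),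
      (π ⟨g, mem_centralizer_singleton_iff.2 hg⟩ : Fi24) * (a * b) =
        a * b * π ⟨g, mem_centralizer_singleton_iff.2 hg⟩ → g * t = t * g := by
    intro g hg h
    have h1 : g * t * x = x * (g * t) := by rw [mul_assoc, htx, ← mul_assoc, hg, mul_assoc]
    have h2 : t * g * x = x * (t * g) := by rw [mul_assoc, hg, ← mul_assoc, htx, mul_assoc]
    obtain ⟨m, hm⟩ := hsame (g * t) (t * g) h1 h2 (by rw [hmul g t hg htx h1, hmul t g htx hg h2, hτ, h])
    have h3 : x ^ m = (x ^ m)⁻¹ := by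
      have h4 : (x ^ m * t) * (x ^ m * t) = 1 := by
        have h5 : x ^ m * t = g * t * g⁻¹ := by rw [hm]; group
        rw [h5]
        calc g * t * g⁻¹ * (g * t * g⁻¹) = g * (t * t) * g⁻¹ := by group
          _ = 1 := by rw [htt]; group
      have h5 : x ^ m * x ^ m = 1 := by
        calc x ^ m * x ^ m = x ^ m * x ^ m * (t * t) := by rw [htt, mul_one]
          _ = x ^ m * (x ^ m * t) * t := by group
          _ = x ^ m * (t * x ^ m) * t := by rw [hxt]
          _ = (x ^ m * t) * (x ^ m * t) := by group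
          _ = 1 := h4
      exact eq_inv_of_mul_eq_one_left h5
    rw [hm, zpow_eq_one D h3, one_mul]
  -- elements of `K`
  have hKab : ∀ (k : G) (hk : k ∈ KK x i t), (π ⟨k, mem_centralizer_singleton_iff.2 (mem_KK.1 hk).1⟩ : Fi24) ∈
      Cab a b := by
    intro k hk
    obtain ⟨h1, h2, h3⟩ := mem_KK.1 hk
    rw [mem_Cab]
    have hb : (π ⟨k, mem_centralizer_singleton_iff.2 h1⟩ : Fi24) * b =
        b * π ⟨k, mem_centralizer_singleton_iff.2 h1⟩ := by
      obtain ⟨h4, h5⟩ := hcj k h1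
      have h6 : i * k * i⁻¹ = k := by rw [← h2]; group
      have h7 : (⟨i * k * i⁻¹, mem_centralizer_singleton_iff.2 h4⟩ : centralizer ({x} : Set G)) =
          ⟨k, mem_centralizer_singleton_iff.2 h1⟩ := Subtype.ext h6
      rw [h7] at h5
      exact eq_mul_inv_iff_mul_eq.1 h5
    have hab : (π ⟨k, mem_centralizer_singleton_iff.2 h1⟩ : Fi24) * (a * b) =
        a * b * π ⟨k, mem_centralizer_singleton_iff.2 h1⟩ := by
      have h4 : k * t * x = x * (k * t) := by rw [mul_assoc, htx, ← mul_assoc, h1, mul_assoc]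
      have h5 := hmul k t h1 htx h4
      have h6 := hmul t k htx h1 (by rw [← h3]; exact h4)
      have h7 : (⟨k * t, mem_centralizer_singleton_iff.2 h4⟩ : centralizer ({x} : Set G)) =
          ⟨t * k, mem_centralizer_singleton_iff.2 (by rw [← h3]; exact h4)⟩ := Subtype.ext h3
      rw [h7, h6, hτ] at h5
      exact h5.symm
    refine ⟨mem_commutator_iff.1 (π ⟨k, mem_centralizer_singleton_iff.2 h1⟩).2, ?_, hb⟩
    have h4 : (π ⟨k, mem_centralizer_singleton_iff.2 h1⟩ : Fi24) * a * b =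
        a * π ⟨k, mem_centralizer_singleton_iff.2 h1⟩ * b := by
      rw [mul_assoc, hab, mul_assoc, mul_assoc, hb]
    exact mul_right_cancel h4
  -- lifting elements of `Cab`
  have hlift : ∀ y ∈ Cab a b, ∃ (k : G) (hk : k ∈ KK x i t),
      (π ⟨k, mem_centralizer_singleton_iff.2 (mem_KK.1 hk).1⟩ : Fi24) = y := by
    intro y hy
    obtain ⟨hy1, hya, hyb⟩ := mem_Cab.1 hy
    obtain ⟨⟨g, hgm⟩, hg⟩ := D.surj ⟨y, mem_commutator_iff.2 hy1⟩
    have hgx := mem_centralizer_singleton_iff.1 hgm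
    have hgy : (π ⟨g, mem_centralizer_singleton_iff.2 hgx⟩ : Fi24) = y := congrArg Subtype.val hg
    obtain ⟨h4, h5⟩ := hcj g hgx
    rw [hgy, ← hyb, mul_inv_cancel_right] at h5
    obtain ⟨m, hm⟩ := hsame _ g h4 hgx (by rw [h5, hgy])
    have hxg : ∀ l : ℤ, g * x ^ l = x ^ l * g := fun l => (show Commute g x from hgx).zpow_right l
    have hkx : x ^ (2 * m) * g * x = x * (x ^ (2 * m) * g) := by
      rw [mul_assoc, hgx, ← mul_assoc, hxx, mul_assoc]
    have hky : (π ⟨x ^ (2 * m) * g, mem_centralizer_singleton_iff.2 hkx⟩ : Fi24) = y := by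
      rw [hmul _ g (hxx _) hgx hkx, (hker _ (hxx _)).2 ⟨_, rfl⟩, one_mul, hgy]
    have hki : x ^ (2 * m) * g * i = i * (x ^ (2 * m) * g) := by
      have h6 : i * (x ^ (2 * m) * g) * i⁻¹ = x ^ (2 * m) * g := by
        calc i * (x ^ (2 * m) * g) * i⁻¹ = (i * x ^ (2 * m) * i⁻¹) * (i * g * i⁻¹) := by group
          _ = (x ^ (2 * m))⁻¹ * (x ^ m * g) := by rw [hxi, hm]
          _ = x ^ (2 * m) * (x ^ (3 * (-m)) * g) := by
            rw [← mul_assoc, ← mul_assoc, ← zpow_neg, ← zpow_add, ← zpow_add]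
            congr 2
            ring
          _ = x ^ (2 * m) * g := by rw [h3k, one_mul]
      exact (mul_inv_eq_iff_eq_mul.1 h6).symm
    have hkt : x ^ (2 * m) * g * t = t * (x ^ (2 * m) * g) := by
      apply hct _ hkx
      rw [hky, ← mul_assoc, hya, mul_assoc, hyb, ← mul_assoc]
    exact ⟨x ^ (2 * m) * g, mem_KK.2 ⟨hkx, hki, hkt⟩, hky⟩
  let κ : ↥(KK x i t) →* ↥(Cab a b) :=
    { toFun := fun k => ⟨_, hKab k k.2⟩
      map_one' := Subtype.ext ((hker 1 (by rw [one_mul, mul_one])).2 ⟨0, (zpow_zero _).symm⟩)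
      map_mul' := fun k l => Subtype.ext (hmul k l (mem_KK.1 k.2).1 (mem_KK.1 l.2).1 (mem_KK.1 (k * l).2).1) }
  have hκs : Function.Surjective κ := by
    rintro ⟨y, hy⟩
    obtain ⟨k, hk, h⟩ := hlift y hy
    exact ⟨⟨k, hk⟩, Subtype.ext h⟩
  have hone : ∀ k : G, k * i = i * k → ∀ m : ℤ, k = x ^ m → k = 1 := by
    rintro _ hk m rfl
    apply zpow_eq_one D
    rw [← hxi m, ← hk]
    group
  -- the cover
  have hform : ∀ (c : G) (hc : c * x = x * c), (π ⟨c, mem_centralizer_singleton_iff.2 hc⟩ : Fi24) ∈ Cab a b →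
      ∃ (m : ℤ) (k : ↥(KK x i t)), c = x ^ m * k := by
    intro c hc h
    obtain ⟨k, hk, h1⟩ := hlift _ h
    obtain ⟨m, hm⟩ := hsame c k hc (mem_KK.1 hk).1 h1.symm
    exact ⟨m, ⟨k, hk⟩, hm⟩
  have hfs : ∀ (c : G) (hc : c * x = x * c), c * t = t * c →
      ((π ⟨c, mem_centralizer_singleton_iff.2 hc⟩ : Fi24) * a * (π ⟨c, mem_centralizer_singleton_iff.2 hc⟩ : Fi24)⁻¹ = a ∧
        (π ⟨c, mem_centralizer_singleton_iff.2 hc⟩ : Fi24) * b * (π ⟨c, mem_centralizer_singleton_iff.2 hc⟩ : Fi24)⁻¹ = b) ∨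
      ((π ⟨c, mem_centralizer_singleton_iff.2 hc⟩ : Fi24) * a * (π ⟨c, mem_centralizer_singleton_iff.2 hc⟩ : Fi24)⁻¹ = b ∧
        (π ⟨c, mem_centralizer_singleton_iff.2 hc⟩ : Fi24) * b * (π ⟨c, mem_centralizer_singleton_iff.2 hc⟩ : Fi24)⁻¹ = a) := by
    intro c hc hct'
    refine CTwoTab.FiTF.fix_or_swap P (t := π ⟨t, mem_centralizer_singleton_iff.2 htx⟩) hτ ?_
    rw [mem_centralizer_singleton_iff, ← map_mul, ← map_mul]
    congr 1
    exact Subtype.ext hct'
  have hκi : Function.Injective κ := by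
    rw [injective_iff_map_eq_one]
    intro k hk
    obtain ⟨m, hm⟩ := (hker k (mem_KK.1 k.2).1).1 (congrArg Subtype.val hk)
    exact Subtype.ext (hone k (mem_KK.1 k.2).2.1 m hm)
  refine ⟨i, κ, hii, hix, hit, ⟨hκi, hκs⟩, fun _ => rfl, ?_, ?_, ?_⟩
  · intro k
    obtain ⟨hkx, hki, hkt⟩ := mem_KK.1 k.2
    rw [P.lift.ext.ker]
    constructor
    · rintro (h | h)
      · left
        obtain ⟨m, hm⟩ := (hker k hkx).1 (congrArg Subtype.val h)
        exact hone k hki m hm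
      · right
        have h1 : (π ⟨k, mem_centralizer_singleton_iff.2 hkx⟩ : Fi24) = π ⟨t, mem_centralizer_singleton_iff.2 htx⟩ := by
          rw [hτ, ← P.hz]
          exact congrArg Subtype.val h
        obtain ⟨m, hm⟩ := hsame k t hkx htx h1
        have h2 : (k : G) * t⁻¹ = 1 := by
          refine hone _ ?_ m (by rw [hm, mul_inv_cancel_right])
          rw [htinv, mul_assoc, ← hit, ← mul_assoc, hki, mul_assoc]
        exact mul_inv_eq_one.1 h2
    · rintro (h | h)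
      · left
        have : k = 1 := Subtype.ext h
        rw [this, map_one]
      · right
        apply Subtype.ext
        rw [P.hz, ← hτ]
        show (π ⟨k, mem_centralizer_singleton_iff.2 hkx⟩ : Fi24) = _
        congr 2
        exact Subtype.ext h
  · intro c d hcx hct' hdx hdt hc hd
    have hcd : c * d * x = x * (c * d) := by rw [mul_assoc, hdx, ← mul_assoc, hcx, mul_assoc]
    apply hform _ hcd
    rw [mem_Cab]
    refine ⟨mem_commutator_iff.1 (π ⟨c * d, mem_centralizer_singleton_iff.2 hcd⟩).2, ?_⟩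
    rw [hmul c d hcx hdx hcd]
    rcases hfs c hcx hct' with ⟨h1, h2⟩ | ⟨h1, h2⟩
    · exact absurd (hform c hcx (mem_Cab.2 ⟨mem_commutator_iff.1 (π ⟨c, mem_centralizer_singleton_iff.2 hcx⟩).2,
        mul_inv_eq_iff_eq_mul.1 h1, mul_inv_eq_iff_eq_mul.1 h2⟩)) hc
    rcases hfs d hdx hdt with ⟨h3, h4⟩ | ⟨h3, h4⟩
    · exact absurd (hform d hdx (mem_Cab.2 ⟨mem_commutator_iff.1 (π ⟨d, mem_centralizer_singleton_iff.2 hdx⟩).2,
        mul_inv_eq_iff_eq_mul.1 h3, mul_inv_eq_iff_eq_mul.1 h4⟩)) hd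
    rw [mul_inv_eq_iff_eq_mul] at h1 h2 h3 h4
    constructor
    · rw [mul_assoc, h3, ← mul_assoc, h2, mul_assoc]
    · rw [mul_assoc, h4, ← mul_assoc, h1, mul_assoc]
  · intro c hcx hct' hk
    apply hform c hcx
    have h1 : ∀ y ∈ Cab a b, (π ⟨c, mem_centralizer_singleton_iff.2 hcx⟩ : Fi24) * y *
        (π ⟨c, mem_centralizer_singleton_iff.2 hcx⟩ : Fi24)⁻¹ = y ∨
        (π ⟨c, mem_centralizer_singleton_iff.2 hcx⟩ : Fi24) * y *
        (π ⟨c, mem_centralizer_singleton_iff.2 hcx⟩ : Fi24)⁻¹ = a * b * y := by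
      intro y hy
      obtain ⟨k, hkm, rfl⟩ := hlift y hy
      have hkx := (mem_KK.1 hkm).1
      have hci : c⁻¹ * x = x * c⁻¹ := (show Commute c x from hcx).inv_left
      have hck : c * k * x = x * (c * k) := by rw [mul_assoc, hkx, ← mul_assoc, hcx, mul_assoc]
      have hckc : c * k * c⁻¹ * x = x * (c * k * c⁻¹) := by rw [mul_assoc, hci, ← mul_assoc, hck, mul_assoc]
      rw [← hinv c hcx hci, ← hmul c k hcx hkx hck, ← hmul _ _ hck hci hckc]
      rcases hk ⟨k, hkm⟩ with h | h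
      · left
        congr 2
        exact Subtype.ext h
      · right
        have htk : t * k * x = x * (t * k) := by rw [mul_assoc, hkx, ← mul_assoc, htx, mul_assoc]
        rw [← hτ, ← hmul t k htx hkx htk]
        congr 2
        exact Subtype.ext h
    have h2 : ∀ y ∈ Cab a b, (π ⟨c, mem_centralizer_singleton_iff.2 hcx⟩ : Fi24) * y *
        (π ⟨c, mem_centralizer_singleton_iff.2 hcx⟩ : Fi24)⁻¹ = y := fun y hy => OddHalf.D4.Spor.FiTF.fix_all P h1 hy
    rcases OddHalf.D4.Spor.FiTF.mem_of_fix P (π ⟨c, mem_centralizer_singleton_iff.2 hcx⟩).2 h2 with h3 | h3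
    · rw [h3]
      exact Subgroup.one_mem _
    · rw [h3, ← P.hz]
      exact P.z.2

end abs

section frame

variable {G : Type*} [Group G] [Finite G] {t : G} {L : Type*} [Group L]

theorem exists_frame' (htt : t * t = 1) (ht1 : t ≠ 1) (h2 : Nat.card ↥(center ↥(centralizer ({t} : Set G))) = 2)
    (e : ↥(centralizer ({t} : Set G)) ⧸ center ↥(centralizer ({t} : Set G)) ≃* L) {x : ↥(centralizer ({t} : Set G))}
    {r : G} {π : centralizer ({(x : G)} : Set G) →* ↥(_root_.commutator Fi24)} (D : Data (x : G) r π)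
    (htx : t * x = x * t) {a b : Fi24} (P : TetFi24A.At a b)
    (hτ : (π ⟨t, mem_centralizer_singleton_iff.2 htx⟩ : Fi24) = a * b) :
    ∃ (i : G) (κ : ↥(KK (x : G) i t) →* ↥(Cab a b)) (F : FiFrame (e (QuotientGroup.mk x))), i * i = 1 ∧
      i * (x : G) * i⁻¹ = (x : G)⁻¹ ∧ i * t = t * i ∧ Function.Bijective κ ∧
      (∀ k : ↥(KK (x : G) i t), (κ k : Fi24) = π ⟨k, mem_centralizer_singleton_iff.2 (mem_KK.1 k.2).1⟩) ∧
      (∀ c' : ↥(centralizer ({t} : Set G)), (∃ (m : ℤ) (k : ↥(KK (x : G) i t)), (c' : G) = (x : G) ^ m * k) ↔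
        e (QuotientGroup.mk c') ∈ F.S) ∧
      (∀ k : ↥(KK (x : G) i t), F.j (P.π (κ k)) =
        e (QuotientGroup.mk ⟨(k : G), mem_centralizer_singleton_iff.2 (mem_KK.1 k.2).2.2⟩)) := by
  obtain ⟨i, κ, hii, hix, hit, hκ, hκπ, hpk', hcov, hout⟩ := exists_K' D htx htt P hτ
  let p : ↥(KK (x : G) i t) →* Spor.Fi22 := P.π.comp κ
  have hps : Function.Surjective p := P.lift.ext.surj.comp hκ.2
  have hpk : ∀ k, p k = 1 ↔ (k : G) = 1 ∨ (k : G) = t := hpk'
  let C : Subgroup G := centralizer ({t} : Set G)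
  let q0 : C →* L := e.toMonoidHom.comp (QuotientGroup.mk' (center ↥(centralizer ({t} : Set G))))
  have hq0s : Function.Surjective q0 := e.surjective.comp (QuotientGroup.mk'_surjective _)
  have hq0k : ∀ c : C, q0 c = 1 ↔ (c : G) = 1 ∨ (c : G) = t := by
    intro c
    rw [← center_cases ht1 h2, ← QuotientGroup.eq_one_iff]
    show e _ = 1 ↔ _
    rw [map_eq_one_iff e e.injective]
    rfl
  let ι : ↥(KK (x : G) i t) →* C :=
    { toFun := fun k => ⟨k, mem_centralizer_singleton_iff.2 (mem_KK.1 k.2).2.2⟩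
      map_one' := rfl
      map_mul' := fun _ _ => rfl }
  let q : ↥(KK (x : G) i t) →* L := q0.comp ι
  have hqp : ∀ k, q k = 1 ↔ p k = 1 := by
    intro k
    rw [hpk]
    exact hq0k (ι k)
  let j : Spor.Fi22 →* L := p.liftOfSurjective hps ⟨q, fun k hk => (hqp k).2 hk⟩
  have hj : ∀ k, j (p k) = q k := fun k =>
    MonoidHom.liftOfRightInverse_comp_apply p _ _ ⟨q, fun k hk => (hqp k).2 hk⟩ k
  have hsx : e (QuotientGroup.mk x) = q0 x := rfl
  have hx3 : x ^ 3 = 1 := by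
    apply Subtype.ext
    show (x : G) ^ 3 = 1
    rw [← D.ord, pow_orderOf_eq_one]
  -- lifting elements commuting with `s`
  have hlift : ∀ c : L, c * e (QuotientGroup.mk x) = e (QuotientGroup.mk x) * c → ∃ c' : C, q0 c' = c ∧
      (c' : G) * x = x * c' := by
    intro c hc
    obtain ⟨c', rfl⟩ := hq0s c
    refine ⟨c', rfl, ?_⟩
    have h3 : (QuotientGroup.mk x : C ⧸ center ↥(centralizer ({t} : Set G))) * QuotientGroup.mk c' =
        QuotientGroup.mk c' * QuotientGroup.mk x := by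
      apply e.injective
      rw [map_mul, map_mul]
      exact hc.symm
    have h4 := H979.CovLift.lift_comm (Z := center ↥(centralizer ({t} : Set G))) le_rfl h2 (by decide : Odd 3) hx3 h3
    exact (congrArg Subtype.val h4).symm
  have hform : ∀ c' : C, (∃ (m : ℤ) (k : ↥(KK (x : G) i t)), (c' : G) = (x : G) ^ m * k) ↔
      ∃ (m : ℤ) (f : Spor.Fi22), q0 c' = (e (QuotientGroup.mk x)) ^ m * j f := by
    intro c'
    constructor
    · rintro ⟨m, k, h⟩
      refine ⟨m, p k, ?_⟩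
      rw [hj]
      have h3 : c' = x ^ m * ι k := by
        apply Subtype.ext
        rw [Subgroup.coe_mul, Subgroup.coe_zpow]
        exact h
      rw [h3, map_mul, map_zpow]
      rfl
    · rintro ⟨m, f, h⟩
      obtain ⟨k, rfl⟩ := hps f
      rw [hj, hsx] at h
      have h3 : q0 (c' * (x ^ m * ι k)⁻¹) = 1 := by
        rw [map_mul, map_inv, map_mul, map_zpow, h]
        exact mul_inv_cancel _
      have h4 : (c' : G) = ((c' * (x ^ m * ι k)⁻¹ : C) : G) * ((x : G) ^ m * k) := by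
        have h5 : c' = (c' * (x ^ m * ι k)⁻¹) * (x ^ m * ι k) := (inv_mul_cancel_right _ _).symm
        have h6 : (c' : G) = ((c' * (x ^ m * ι k)⁻¹ : C) : G) * ((x ^ m * ι k : C) : G) := congrArg Subtype.val h5
        have h7 : ((x ^ m * ι k : C) : G) = (x : G) ^ m * k := by
          rw [Subgroup.coe_mul, Subgroup.coe_zpow]
          rfl
        rwa [h7] at h6
      have htK : t ∈ KK (x : G) i t := mem_KK.2 ⟨htx, hit.symm, rfl⟩
      rcases (hq0k _).1 h3 with h5 | h5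
      · rw [h5, one_mul] at h4
        exact ⟨m, k, h4⟩
      · rw [h5] at h4
        refine ⟨m, ⟨t, htK⟩ * k, ?_⟩
        rw [h4, Subgroup.coe_mul, ← mul_assoc, (show Commute t (x : G) from htx).zpow_right m, mul_assoc]
  have htx' : ∀ c' : C, (c' : G) * t = t * c' := fun c' => mem_centralizer_singleton_iff.1 c'.2
  refine ⟨i, κ, ⟨j, ?_, ?_, q0 ⟨i, mem_centralizer_singleton_iff.2 hit⟩, ?_, ?_, ?_, ?_⟩, hii, hix, hit, hκ, hκπ, hform, hj⟩
  · rw [injective_iff_map_eq_one]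
    intro f hf
    obtain ⟨k, rfl⟩ := hps f
    rw [hj] at hf
    exact (hqp k).1 hf
  · intro f
    obtain ⟨k, rfl⟩ := hps f
    rw [hj, hsx]
    show q0 (ι k) * q0 x = q0 x * q0 (ι k)
    rw [← map_mul, ← map_mul]
    congr 1
    exact Subtype.ext (mem_KK.1 k.2).1
  · rw [hsx, ← map_inv, ← map_mul, ← map_mul, ← map_inv]
    congr 1
    exact Subtype.ext hix
  · intro f
    obtain ⟨k, rfl⟩ := hps f
    rw [hj]
    show q0 _ * q0 (ι k) = q0 (ι k) * q0 _
    rw [← map_mul, ← map_mul]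
    congr 1
    exact Subtype.ext (mem_KK.1 k.2).2.1.symm
  · intro c d hc hd hcS hdS
    obtain ⟨c', rfl, hc'⟩ := hlift c hc
    obtain ⟨d', rfl, hd'⟩ := hlift d hd
    rw [← map_mul]
    rw [← hform] at hcS hdS ⊢
    rw [Subgroup.coe_mul]
    exact hcov _ _ hc' (htx' c') hd' (htx' d') hcS hdS
  · intro c hc hcj
    obtain ⟨c', rfl, hc'⟩ := hlift c hc
    rw [← hform]
    refine hout _ hc' (htx' c') fun k => ?_
    have h3 := hcj (p k)
    rw [hj] at h3
    have h4 : q0 (c' * ι k * c'⁻¹ * (ι k)⁻¹) = 1 := by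
      rw [map_mul, map_mul, map_mul, map_inv, map_inv]
      have h5 : q0 c' * q0 (ι k) = q0 (ι k) * q0 c' := h3
      rw [h5]
      group
    have h5 : (c' : G) * k * (c' : G)⁻¹ = ((c' * ι k * c'⁻¹ * (ι k)⁻¹ : C) : G) * k := by
      show _ = (c' : G) * k * (c' : G)⁻¹ * (k : G)⁻¹ * k
      group
    rcases (hq0k _).1 h4 with h6 | h6
    · left
      rw [h5, h6, one_mul]
    · right
      rw [h5, h6]


/-! ### The elements of `⟨x⟩ × K` -/

/-- every element of `2.Fi22` is a commutator -/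
theorem all_Cab (hFi : RowN Spor.Fi22) {a b : Fi24} (P : At a b) [Finite ↥(Cab a b)] : AllC ↥(Cab a b) := by
  have hpce : PCE P.π := ⟨P.lift.ext.surj, CTwoTab.FiTF.ker_le P, FiTwentyFour.perfect P.ha P.hb P.ne P.ab⟩
  intro g
  by_cases hg : g ∈ center ↥(Cab a b)
  · have h1 : P.π g = 1 := by
      apply Fi22Out.center_triv
      intro y
      obtain ⟨w, rfl⟩ := P.lift.ext.surj y
      rw [← map_mul, ← map_mul, (Subgroup.mem_center_iff.1 hg w)]
    rcases (P.lift.ext.ker _).1 h1 with h2 | h2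
    · exact ⟨1, 1, by rw [h2]; group⟩
    · obtain ⟨u, v, huv⟩ := comm_z P
      exact ⟨u, v, by rw [h2, huv]⟩
  · exact hFi.any hpce g hg

/-- the elements of `⟨x⟩ × K` are commutators in `C(t)` -/
theorem isC_mem (hFi : RowN Spor.Fi22) {x : ↥(centralizer ({t} : Set G))} (hx : orderOf x = 3) {i : G} {a b : Fi24}
    (P : At a b) (κ : ↥(KK (x : G) i t) →* ↥(Cab a b)) (hκ : Function.Bijective κ)
    (hix : i * (x : G) * i⁻¹ = (x : G)⁻¹) (hit : i * t = t * i) {c : ↥(centralizer ({t} : Set G))}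
    (hc : ∃ (m : ℤ) (k : ↥(KK (x : G) i t)), (c : G) = (x : G) ^ m * k) : IsC c := by
  obtain ⟨m, k, hm⟩ := hc
  let ε : ↥(KK (x : G) i t) ≃* ↥(Cab a b) := MulEquiv.ofBijective κ hκ
  have hfin : Finite ↥(Cab a b) := Finite.of_equiv _ ε.toEquiv
  obtain ⟨u', v', huv'⟩ := all_Cab hFi P (ε k)
  obtain ⟨u, rfl⟩ := ε.surjective u'
  obtain ⟨v, rfl⟩ := ε.surjective v'
  have huv : k = u * v * u⁻¹ * v⁻¹ := by
    apply ε.injective
    simp only [map_mul, map_inv]
    exact huv'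
  let ι : ↥(KK (x : G) i t) →* ↥(centralizer ({t} : Set G)) :=
    { toFun := fun k => ⟨k, mem_centralizer_singleton_iff.2 (mem_KK.1 k.2).2.2⟩
      map_one' := rfl
      map_mul' := fun _ _ => rfl }
  let i' : ↥(centralizer ({t} : Set G)) := ⟨i, mem_centralizer_singleton_iff.2 hit⟩
  have hix' : i' * x * i'⁻¹ = x⁻¹ := Subtype.ext hix
  have hιx : ∀ k, Commute (ι k) x := fun k => Subtype.ext (mem_KK.1 k.2).1
  have hιi : ∀ k, Commute (ι k) i' := fun k => Subtype.ext (mem_KK.1 k.2).2.1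
  have hcm : c = ι k * x ^ m := by
    rw [((hιx k).zpow_right m).eq]
    apply Subtype.ext
    rw [Subgroup.coe_mul, Subgroup.coe_zpow]
    exact hm
  have h3 : x ^ ((3 : ℤ) * m) = 1 := by
    rw [zpow_mul, show ((3 : ℤ)) = ((3 : ℕ) : ℤ) by norm_num, zpow_natCast, ← hx, pow_orderOf_eq_one, one_zpow]
  have h4 : x ^ m = i' * x ^ m * i'⁻¹ * (x ^ m)⁻¹ := by
    rw [← conj_zpow, hix']
    calc x ^ m = x ^ ((3 : ℤ) * m) * (x⁻¹ ^ m * (x ^ m)⁻¹) := by
          rw [inv_zpow, ← zpow_neg, ← zpow_add, ← zpow_add]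
          congr 1
          ring
      _ = x⁻¹ ^ m * (x ^ m)⁻¹ := by rw [h3, one_mul]
  rw [hcm]
  refine H777.Ore.isC_mul_of_commute (a := ι u) (b := ι v) (c := i') (d := x ^ m) ?_ h4 (hιi u)
    ((hιx u).zpow_right m) (hιi v) ((hιx v).zpow_right m)
  have h5 := congrArg ι huv
  simpa only [map_mul, map_inv] using h5

end frame

/-! ### The result -/

section result

open Cfsg.Agent.MonsterX Cfsg.Agent.LThree

variable {t₀ : ↥InstData.M.G} (hA : LThreeB.Row.TA t₀)
    (h2 : Nat.card ↥(center ↥(centralizer ({t₀} : Set ↥InstData.M.G))) = 2) {L : Type*} [Group L]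
    (e : ↥(centralizer ({t₀} : Set ↥InstData.M.G)) ⧸ center ↥(centralizer ({t₀} : Set ↥InstData.M.G)) ≃* L)
    {x : ↥(centralizer ({t₀} : Set ↥InstData.M.G))} (hx : orderOf x = 3)
    (h : H844.Ore.FiType t₀ (x : ↥InstData.M.G))
include hA h2 hx h

/-- **2.B, 3A**: the elements `u x`, `u` a 2-element of `C(x, t₀)` -/
theorem three_A_cover (hFi : RowN Spor.Fi22) {u : ↥(centralizer ({t₀} : Set ↥InstData.M.G))} {n : ℕ}
    (hn : u ^ 2 ^ n = 1) (hux : u * x = x * u) :
    IsC (u * x) ∨ Nat.card ↥(centralizer ({e (QuotientGroup.mk (u * x))} : Set L)) ≤ 7357464576 := by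
  have := LThreeMB.Row.finite_model
  have : Finite L := Finite.of_equiv _ e.toEquiv
  have ho := MThirteen.Row.ta_order hA
  have htt : t₀ * t₀ = 1 := by rw [← pow_two, ← ho, pow_orderOf_eq_one]
  have ht1 : t₀ ≠ 1 := by
    rintro rfl
    rw [orderOf_one] at ho
    norm_num at ho
  have hs := order_s hA h2 e hx h
  obtain ⟨hxt, f, a, b, P, hf⟩ := h
  obtain ⟨r, D⟩ := exists_data (by rw [Subgroup.orderOf_coe, hx]) f
  obtain ⟨i, κ, F, hii, hix, hit, hκ, -, hform, -⟩ := exists_frame' htt ht1 h2 e D hxt P hf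
  by_cases hS : e (QuotientGroup.mk u) ∈ F.S
  · left
    apply isC_mem hFi hx P κ hκ hix hit
    rw [hform, QuotientGroup.mk_mul, map_mul]
    exact F.S.mul_mem hS F.s_mem
  · right
    rw [QuotientGroup.mk_mul, map_mul]
    refine F.card_le hs (n := n) ?_ ?_ hS
    · rw [← map_pow, ← QuotientGroup.mk_pow, hn, QuotientGroup.mk_one, map_one]
    · have h3 : (QuotientGroup.mk (u * x) : ↥(centralizer ({t₀} : Set ↥InstData.M.G)) ⧸
          center ↥(centralizer ({t₀} : Set ↥InstData.M.G))) = QuotientGroup.mk (x * u) := congrArg _ hux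
      have h4 := congrArg e h3
      rw [QuotientGroup.mk_mul, QuotientGroup.mk_mul, map_mul, map_mul] at h4
      exact h4

end result

end Cfsg.Agent.H480.QS
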