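import Cfsg.Agent.H480.QS.BThree
import Cfsg.Agent.OddHalf.NI3.Ex.FiRow.Outer

/-!
# 2.B over the class 3A: the outer 2-elements (helper480; piece P7 of the row 2.B of S2491, S2492)

* `outer_cases` : an outer automorphism of `Fi22` of 2-power order fixes a transposition or at most `53084160` elements;
* `fused` : a 2-element `c` of `C(x, t₀)` interchanging `a`, `b` and fixing a transposition of `Fi22` is conjugate to `t₀ c` in
  `C(x, t₀)`;
* `three_A_cover2` : the final form of P7: `u x` is a commutator in `C(t₀)` or its image has a centralizer of order at most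
  `318504960`.
-/

set_option autoImplicit false
set_option maxRecDepth 100000

namespace Cfsg.Agent.H480.QS

section fi22

open Subgroup Cfsg
open Cfsg.Agent.LThreeFi22 Cfsg.Agent.R01.FiFusion Cfsg.Agent.R01.FiFacts
open Cfsg.Agent.H647.SpF.Fi22 (ctx0 orbit_le card_cent_tri)
open Cfsg.Agent.OddHalf.NI3.Ex.FiRow.Base (T kt exists_fixed)
open Cfsg.Agent.H480.Ore.Fi22Out (card_two center_triv)

/-- the number of elements commuting with an involution which is not a transposition -/
theorem card_invol' {w : Spor.Fi22} (hw : w * w = 1) (hw1 : w ≠ 1) (hwT : w ∉ T) :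
    Nat.card ↥(centralizer ({w} : Set Spor.Fi22)) ≤ 53084160 := by
  have C := ctx0
  have := C.finite
  have Fa := Cfsg.Agent.R08.AutT.tFacts
  rcases Cfsg.Agent.OddHalf.D4.Spor.Fi22.inv_cases hw hw1 with
    h1 | ⟨a, ha, b, hb, hab, cab, rfl⟩ | ⟨a, b, c, h1, rfl⟩
  · exact absurd h1 hwT
  · have key : ∀ g ∈ centralizer ({a * b} : Set Spor.Fi22), g * a * g⁻¹ ∈ ({a, b} : Set Spor.Fi22) := by
      intro g hg
      rcases C.cz a ha b hb hab cab g (mem_centralizer_singleton_iff.1 hg) with ⟨h, -⟩ | ⟨h, -⟩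
      · exact Or.inl (mul_inv_eq_iff_eq_mul.2 h)
      · exact Or.inr h
    obtain ⟨n, hn, hc⟩ := orbit_le (centralizer ({a * b} : Set Spor.Fi22)) a (N := 2)
      ((Set.ncard_insert_le _ _).trans (by rw [Set.ncard_singleton])) key
    have h2 : Nat.card ↥(centralizer ({a * b} : Set Spor.Fi22) ⊓ centralizer ({a} : Set Spor.Fi22)) ≤ 26542080 := by
      rw [← card_two ha hb hab cab]
      refine card_le_of_le ?_
      rintro g ⟨hg, hga⟩
      refine ⟨hga, mem_centralizer_singleton_iff.2 ?_⟩
      have hg' := mem_centralizer_singleton_iff.1 hg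
      have hga' := mem_centralizer_singleton_iff.1 hga
      have h3 : a * (g * b) = a * (b * g) := by
        rw [← mul_assoc, ← hga', mul_assoc, hg', mul_assoc]
      exact mul_left_cancel h3
    calc Nat.card ↥(centralizer ({a * b} : Set Spor.Fi22)) = n * _ := hc.symm
      _ ≤ 2 * 26542080 := Nat.mul_le_mul hn h2
      _ ≤ 53084160 := by norm_num
  · obtain ⟨a', b', c', H⟩ := Fa.hex a b c h1
    -- the orbit of `a` under `C(w)` is contained in the hexad
    have key : ∀ g ∈ centralizer ({a * b * c} : Set Spor.Fi22),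
        g * a * g⁻¹ ∈ ({a, b, c, a', b', c'} : Set Spor.Fi22) := by
      intro g hg
      have hg' := mem_centralizer_singleton_iff.1 hg
      by_contra hcon
      simp only [Set.mem_insert_iff, Set.mem_singleton_iff, not_or] at hcon
      obtain ⟨n1, n2, n3, n4, n5, n6⟩ := hcon
      have tri := fun (t : Spor.Fi22) (htT : t ∈ Cfsg.Agent.R08.AutT.T) =>
        Cfsg.Agent.OddHalf.D4.Spor.Fi22.comm_tri Cfsg.Agent.StdFi22.MainFi22.bas h1 htT
      have aw : a * (a * b * c) = a * b * c * a := by
        calc a * (a * b * c) = a * (a * (b * c)) := by group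
          _ = a * (a * (c * b)) := by rw [h1.cyw]
          _ = a * ((a * c) * b) := by group
          _ = a * ((c * a) * b) := by rw [h1.cxw]
          _ = (a * c) * (a * b) := by group
          _ = (a * c) * (b * a) := by rw [h1.cxy]
          _ = a * (c * b) * a := by group
          _ = a * (b * c) * a := by rw [h1.cyw]
          _ = _ := by group
      have gc : g⁻¹ * (a * b * c) = a * b * c * g⁻¹ := by
        calc g⁻¹ * (a * b * c) = g⁻¹ * (a * b * c * g) * g⁻¹ := by group
          _ = g⁻¹ * (g * (a * b * c)) * g⁻¹ := by rw [hg']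
          _ = _ := by group
      have xw : g * a * g⁻¹ * (a * b * c) = a * b * c * (g * a * g⁻¹) := by
        calc g * a * g⁻¹ * (a * b * c) = g * a * (g⁻¹ * (a * b * c)) := by group
          _ = g * (a * (a * b * c)) * g⁻¹ := by rw [gc]; group
          _ = g * (a * b * c) * a * g⁻¹ := by rw [aw]; group
          _ = _ := by rw [hg']; group
      have xT : g * a * g⁻¹ ∈ Cfsg.Agent.R08.AutT.T := C.conj a h1.mx g
      obtain ⟨xa, xb, xc⟩ := tri _ xT xw
      obtain ⟨t, htT, ta, tb, tc, tn⟩ := Cfsg.Agent.OddHalf.D4.Spor.Fi22.exists_ncomm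
        Cfsg.Agent.StdFi22.MainFi22.bas H xT xa xb xc n1 n2 n3 n4 n5 n6
      apply tn
      have tw : t * (a * b * c) = a * b * c * t := by
        calc t * (a * b * c) = t * a * b * c := by group
          _ = a * (t * b) * c := by rw [ta]; group
          _ = a * b * (t * c) := by rw [tb]; group
          _ = _ := by rw [tc]; group
      have k1 : g⁻¹ * t * g ∈ Cfsg.Agent.R08.AutT.T := by
        have := C.conj t htT g⁻¹
        rwa [inv_inv] at this
      have k2 : g⁻¹ * t * g * (a * b * c) = a * b * c * (g⁻¹ * t * g) := by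
        calc g⁻¹ * t * g * (a * b * c) = g⁻¹ * t * (g * (a * b * c)) := by group
          _ = g⁻¹ * (t * (a * b * c)) * g := by rw [hg']; group
          _ = (g⁻¹ * (a * b * c)) * t * g := by rw [tw]; group
          _ = _ := by rw [gc]; group
      have k3 := (tri _ k1 k2).1
      calc t * (g * a * g⁻¹) = g * ((g⁻¹ * t * g) * a) * g⁻¹ := by group
        _ = g * (a * (g⁻¹ * t * g)) * g⁻¹ := by rw [k3]
        _ = _ := by group
    have h6 : ({a, b, c, a', b', c'} : Set Spor.Fi22).ncard ≤ 6 := by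
      refine (Set.ncard_insert_le _ _).trans (Nat.succ_le_succ ?_)
      refine (Set.ncard_insert_le _ _).trans (Nat.succ_le_succ ?_)
      refine (Set.ncard_insert_le _ _).trans (Nat.succ_le_succ ?_)
      refine (Set.ncard_insert_le _ _).trans (Nat.succ_le_succ ?_)
      refine (Set.ncard_insert_le _ _).trans (Nat.succ_le_succ ?_)
      rw [Set.ncard_singleton]
    obtain ⟨n, hn, hc⟩ := orbit_le (centralizer ({a * b * c} : Set Spor.Fi22)) a h6 key
    -- the second step
    have key2 : ∀ g ∈ centralizer ({a * b * c} : Set Spor.Fi22) ⊓ centralizer ({a} : Set Spor.Fi22),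
        g * b * g⁻¹ ∈ ({b, c} : Set Spor.Fi22) := by
      rintro g ⟨hg, hga⟩
      have hg' := mem_centralizer_singleton_iff.1 hg
      have hga' := mem_centralizer_singleton_iff.1 hga
      have h2 : g * (b * c) = b * c * g := by
        have h3 : a * (g * (b * c)) = a * (b * c * g) := by
          calc a * (g * (b * c)) = (g * a) * (b * c) := by rw [hga']; group
            _ = g * (a * b * c) := by group
            _ = _ := by rw [hg']; group
        exact mul_left_cancel h3
      rcases C.cz b h1.my c h1.mw h1.yw h1.cyw g h2 with ⟨h, -⟩ | ⟨h, -⟩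
      · exact Or.inl (mul_inv_eq_iff_eq_mul.2 h)
      · exact Or.inr h
    obtain ⟨n', hn', hc'⟩ := orbit_le (centralizer ({a * b * c} : Set Spor.Fi22) ⊓ centralizer ({a} : Set Spor.Fi22)) b
      (N := 2) ((Set.ncard_insert_le _ _).trans (by rw [Set.ncard_singleton])) key2
    have hle : Nat.card ↥(centralizer ({a * b * c} : Set Spor.Fi22) ⊓ centralizer ({a} : Set Spor.Fi22) ⊓
        centralizer ({b} : Set Spor.Fi22)) ≤ 147456 := by
      rw [← card_cent_tri C Fa h1]
      refine card_le_of_le ?_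
      rintro g ⟨⟨hg, hga⟩, hgb⟩
      refine ⟨⟨hga, hgb⟩, mem_centralizer_singleton_iff.2 ?_⟩
      have hg' := mem_centralizer_singleton_iff.1 hg
      have hga' := mem_centralizer_singleton_iff.1 hga
      have hgb' := mem_centralizer_singleton_iff.1 hgb
      have h3 : a * b * (g * c) = a * b * (c * g) := by
        calc a * b * (g * c) = a * (b * g) * c := by group
          _ = (a * g) * b * c := by rw [← hgb']; group
          _ = g * (a * b * c) := by rw [← hga']; group
          _ = _ := by rw [hg']; group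
      exact mul_left_cancel h3
    calc Nat.card ↥(centralizer ({a * b * c} : Set Spor.Fi22)) = n * (n' * _) := by rw [hc', hc]
      _ ≤ 6 * (2 * 147456) := Nat.mul_le_mul hn (Nat.mul_le_mul hn' hle)
      _ ≤ 53084160 := by norm_num

/-- **Outer automorphisms of 2-power order.** -/
theorem outer_cases {α : MulAut Spor.Fi22} {k : ℕ} (hk : α ^ 2 ^ k = 1) (ho : ¬ ∃ g, α = MulAut.conj g) :
    (∃ f ∈ T, α f = f) ∨ Nat.card ↥(fixedSubgroup α) ≤ 53084160 := by
  have C := ctx0
  have hfin : Finite Spor.Fi22 := C.finite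
  -- the largest `j` with `α ^ 2 ^ j ≠ 1`
  induction k with
  | zero =>
    exfalso
    rw [pow_zero, pow_one] at hk
    exact ho ⟨1, by rw [hk, map_one]⟩
  | succ j ih =>
    by_cases h1 : α ^ 2 ^ j = 1
    · exact ih h1
    by_cases hj : j = 0
    · subst hj
      left
      refine exists_fixed ?_
      rw [← pow_two]
      exact hk
    -- the power is inner
    obtain ⟨i, rfl⟩ : ∃ i, j = i + 1 := ⟨j - 1, by omega⟩
    obtain ⟨g, hg⟩ : ∃ g : Spor.Fi22, α * α = MulAut.conj g :=
      Cfsg.Agent.OddHalf.Table.OutFi22.mul_outer α α (fun x hx => ho ⟨x, hx⟩) (fun x hx => ho ⟨x, hx⟩)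
    obtain ⟨u, hu⟩ : ∃ u : Spor.Fi22, α ^ 2 ^ (i + 1) = MulAut.conj u := by
      refine ⟨g ^ 2 ^ i, ?_⟩
      rw [map_pow, ← hg, ← pow_two, ← pow_mul, ← pow_succ']
    have hu1 : u ≠ 1 := by
      rintro rfl
      exact h1 (by rw [hu, map_one])
    have huu : u * u = 1 := by
      apply center_triv
      intro x
      have h2 : MulAut.conj (u * u) = (1 : MulAut Spor.Fi22) := by
        rw [map_mul, ← hu, ← pow_two, ← pow_mul, ← pow_succ]
        exact hk
      have h3 := DFunLike.congr_fun h2 x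
      rw [MulAut.conj_apply] at h3
      exact mul_inv_eq_iff_eq_mul.1 h3
    -- `α` fixes `u`
    have hαu : α u = u := by
      have h2 : α * MulAut.conj u = MulAut.conj u * α := by
        rw [← hu]
        exact (Commute.refl α).pow_right _
      have h5 : u⁻¹ * α u = 1 := by
        apply center_triv
        intro y
        obtain ⟨w, rfl⟩ := α.surjective y
        have h6 := DFunLike.congr_fun h2 w
        change α (u * w * u⁻¹) = u * α w * u⁻¹ at h6
        rw [map_mul, map_mul, map_inv] at h6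
        have h7 : α u * α w = u * α w * u⁻¹ * α u := by rw [← h6]; group
        calc u⁻¹ * α u * α w = u⁻¹ * (α u * α w) := by group
          _ = α w * (u⁻¹ * α u) := by rw [h7]; group
      calc α u = u * (u⁻¹ * α u) := by group
        _ = u := by rw [h5, mul_one]
    have hle : fixedSubgroup α ≤ centralizer ({u} : Set Spor.Fi22) := by
      intro x hx
      have hx' : α x = x := hx
      have h2 : ∀ n : ℕ, (α ^ n) x = x := by
        intro n
        induction n with
        | zero => rfl
        | succ n ihn => rw [pow_succ, MulAut.mul_apply, hx', ihn]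
      have h3 := h2 (2 ^ (i + 1))
      rw [hu, MulAut.conj_apply] at h3
      rw [mem_centralizer_singleton_iff]
      exact (mul_inv_eq_iff_eq_mul.1 h3).symm
    by_cases huT : u ∈ T
    · exact Or.inl ⟨u, huT, hαu⟩
    · exact Or.inr ((card_le_of_le hle).trans (card_invol' huu hu1 huT))

end fi22

section frameL

open Subgroup Cfsg Cfsg.Agent.H480.Ore Cfsg.Agent.H480.Ore.FiFrame
open Cfsg.Agent.OddHalf.NI3.Ex.FiRow.Base (T)

namespace FrameL

variable {L : Type*} [Group L] {s : L} (D : FiFrame s) (hs : orderOf s = 3)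
include D hs

theorem card_le_of [Finite L] {u : L} {n : ℕ} (hn : u ^ 2 ^ n = 1) (hus : u * s = s * u) {α : MulAut Spor.Fi22}
    (hα : ∀ f, D.j (α f) = u * D.j f * u⁻¹) {N : ℕ} (hfix : Nat.card ↥(fixedSubgroup α) ≤ N) :
    Nat.card ↥(centralizer ({u * s} : Set L)) ≤ 6 * N := by
  have hfin : Finite Spor.Fi22 := Finite.of_injective D.j D.inj
  -- `C(u s) ≤ C(u) ⊓ C(s)`
  have hc : Commute u s := hus
  have hle : centralizer ({u * s} : Set L) ≤ centralizer ({u} : Set L) ⊓ centralizer ({s} : Set L) := by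
    intro c hcc
    rw [mem_centralizer_singleton_iff] at hcc
    have h1 : Commute c (u * s) := hcc
    have h2 : Commute c ((u * s) ^ 2 ^ n) := h1.pow_right _
    rw [hc.mul_pow, hn, one_mul] at h2
    have h3 : Commute c s := by
      have h4 : (s ^ 2 ^ n) ^ 2 ^ n = s := by
        rw [← pow_mul, ← pow_add, ← two_mul, pow_mul, show 2 ^ 2 = 3 * 1 + 1 by norm_num]
        clear h2 hn
        induction n with
        | zero => rw [pow_zero, pow_one]
        | succ n ih =>
          rw [pow_succ, pow_mul, ih, pow_succ, pow_mul, ← hs, pow_orderOf_eq_one, one_pow, one_mul]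
      rw [← h4]
      exact h2.pow_right _
    refine ⟨mem_centralizer_singleton_iff.2 ?_, mem_centralizer_singleton_iff.2 h3.eq⟩
    have h4 : Commute c (u * s * s⁻¹) := h1.mul_right h3.inv_right
    rwa [mul_inv_cancel_right] at h4
  set A : Subgroup L := centralizer ({u} : Set L) ⊓ centralizer ({s} : Set L) with hA
  refine (card_le_of_le hle).trans ?_
  -- the intersection with `S`
  have h1 : Nat.card ↥(A ⊓ D.S) ≤ 3 * N := by
    let φ : ↥(zpowers s) × ↥(fixedSubgroup α) → L := fun p => (p.1 : L) * D.j (p.2 : Spor.Fi22)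
    have h2 : ((A ⊓ D.S : Subgroup L) : Set L) ⊆ Set.range φ := by
      rintro _ ⟨⟨hx1, hx2⟩, ⟨k, f, rfl⟩⟩
      have hxu := mem_centralizer_singleton_iff.1 hx1
      have hku : u * s ^ k = s ^ k * u := (show Commute u s from hus).zpow_right k
      have hf : α f = f := by
        apply D.inj
        rw [hα]
        have h3 : s ^ k * (D.j f * u) = s ^ k * (u * D.j f) := by
          calc s ^ k * (D.j f * u) = s ^ k * D.j f * u := by group
            _ = u * (s ^ k * D.j f) := hxu
            _ = (u * s ^ k) * D.j f := by group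
            _ = _ := by rw [hku]; group
        rw [← mul_left_cancel h3, mul_inv_cancel_right]
      exact ⟨(⟨s ^ k, k, rfl⟩, ⟨f, hf⟩), rfl⟩
    have h3 : Nat.card ↥(A ⊓ D.S) ≤ Nat.card (Set.range φ) := by
      have := Set.Finite.to_subtype (Set.finite_range φ)
      exact Nat.card_mono (Set.finite_range φ) h2
    have h4 : Nat.card (Set.range φ) ≤ Nat.card (↥(zpowers s) × ↥(fixedSubgroup α)) :=
      Nat.card_le_card_of_surjective (Set.rangeFactorization φ) Set.rangeFactorization_surjective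
    rw [Nat.card_prod, Nat.card_zpowers, hs] at h4
    exact (h3.trans h4).trans (Nat.mul_le_mul_left _ hfix)
  -- the index is at most two
  have h2 : Nat.card A ≤ 2 * Nat.card ↥(A ⊓ D.S) := by
    have h3 := ((A ⊓ D.S).subgroupOf A).card_mul_index
    rw [Nat.card_congr (subgroupOfEquivOfLe (inf_le_left : A ⊓ D.S ≤ A)).toEquiv] at h3
    have h4 : ((A ⊓ D.S).subgroupOf A).index ≤ 2 := by
      by_cases h5 : A ≤ D.S
      · have h6 : (A ⊓ D.S).subgroupOf A = ⊤ := by
          rw [subgroupOf_eq_top]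
          exact le_inf le_rfl h5
        rw [h6, index_top]
        norm_num
      · obtain ⟨a, haA, haS⟩ := SetLike.not_le_iff_exists.1 h5
        have hm : ∀ b : A, b ∈ (A ⊓ D.S).subgroupOf A ↔ (b : L) ∈ D.S := by
          intro b
          rw [mem_subgroupOf, mem_inf]
          exact and_iff_right b.2
        have h6 : ((A ⊓ D.S).subgroupOf A).index = 2 := by
          rw [index_eq_two_iff]
          refine ⟨⟨a, haA⟩, fun b => ?_⟩
          rw [hm, hm]
          by_cases hb : (b : L) ∈ D.S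
          · right
            refine ⟨hb, fun h7 => haS ?_⟩
            have h8 := D.S.mul_mem (D.S.inv_mem hb) h7
            rwa [coe_mul, inv_mul_cancel_left] at h8
          · left
            refine ⟨?_, hb⟩
            exact D.cover' (mem_centralizer_singleton_iff.1 b.2.2) (mem_centralizer_singleton_iff.1 haA.2) hb haS
        rw [h6]
    rw [← h3, mul_comm]
    exact Nat.mul_le_mul_right _ h4
  omega


/-- outer 2-elements: they fix a transposition or the centralizer is small -/
theorem outer_cases [Finite L] {u : L} {n : ℕ} (hn : u ^ 2 ^ n = 1) (hus : u * s = s * u) (huS : u ∉ D.S) :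
    (∃ f ∈ T, u * D.j f * u⁻¹ = D.j f) ∨ Nat.card ↥(centralizer ({u * s} : Set L)) ≤ 318504960 := by
  have hfin : Finite Spor.Fi22 := Finite.of_injective D.j D.inj
  obtain ⟨α, hα⟩ := D.exists_aut hus huS
  have hpow : ∀ (m : ℕ) (f : Spor.Fi22), D.j ((α ^ m) f) = u ^ m * D.j f * (u ^ m)⁻¹ := by
    intro m
    induction m with
    | zero => intro f; rw [pow_zero, pow_zero, one_mul, inv_one, mul_one]; rfl
    | succ m ih =>
      intro f
      rw [pow_succ', MulAut.mul_apply, hα, ih, pow_succ']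
      group
  have hα1 : α ^ 2 ^ n = 1 := by
    ext f
    apply D.inj
    rw [hpow, hn, one_mul, inv_one, mul_one]
    rfl
  have hαo : ¬ ∃ g, α = MulAut.conj g := by
    rintro ⟨g, rfl⟩
    apply huS
    have h1 : (D.j g)⁻¹ * u ∈ D.S := by
      refine D.out _ ?_ ?_
      · have h2 : (D.j g)⁻¹ * s = s * (D.j g)⁻¹ := (show Commute (D.j g) s from D.comm g).inv_left
        rw [mul_assoc, hus, ← mul_assoc, h2, mul_assoc]
      · intro f
        have h2 := hα f
        rw [MulAut.conj_apply, map_mul, map_mul, map_inv] at h2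
        calc (D.j g)⁻¹ * u * D.j f = (D.j g)⁻¹ * (u * D.j f * u⁻¹) * u := by group
          _ = D.j f * ((D.j g)⁻¹ * u) := by rw [← h2]; group
    have h2 := D.S.mul_mem (D.j_mem g) h1
    rwa [mul_inv_cancel_left] at h2
  rcases QS.outer_cases hα1 hαo with ⟨f, hf, h⟩ | h
  · exact Or.inl ⟨f, hf, by rw [← hα, h]⟩
  · exact Or.inr (card_le_of D hs hn hus hα h)

end FrameL

end frameL

/-! ### Fusion -/

section abs

open Cfsg Cfsg.Agent.H849.ThreeNorm Cfsg.Agent.H480.Ore
open Cfsg.Agent.R08 Cfsg.Agent.R08.FiTwentyFour Cfsg.Agent.R08.TetFi24A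
open Cfsg.Spor (Fi24)
open Subgroup (centralizer mem_centralizer_singleton_iff zpowers center)

variable {G : Type*} [Group G] {x r : G} {π : centralizer ({x} : Set G) →* ↥(_root_.commutator Fi24)}
  (D : Data x r π)
include D

theorem fused {t : G} (htx : t * x = x * t) (htt : t * t = 1) {a b : Fi24} (P : At a b)
    (hτ : (π ⟨t, mem_centralizer_singleton_iff.2 htx⟩ : Fi24) = a * b) {c : G} (hcx : c * x = x * c)
    {n : ℕ} (hn : c ^ 2 ^ n = 1) (hct : c * t = t * c)
    (hsw : (π ⟨c, mem_centralizer_singleton_iff.2 hcx⟩ : Fi24) * a =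
      b * π ⟨c, mem_centralizer_singleton_iff.2 hcx⟩) {f : Fi24} (Hf : Nb a b f)
    (hf : (π ⟨c, mem_centralizer_singleton_iff.2 hcx⟩ : Fi24) * f = f * π ⟨c, mem_centralizer_singleton_iff.2 hcx⟩) :
    ∃ k : G, k * x = x * k ∧ k * t = t * k ∧ k * c * k⁻¹ = t * c := by
  have hker : ∀ (g : G) (hg : g * x = x * g), (π ⟨g, mem_centralizer_singleton_iff.2 hg⟩ : Fi24) = 1 ↔
      ∃ m : ℤ, g = x ^ m := by
    intro g hg
    have h1 := D.ker ⟨g, mem_centralizer_singleton_iff.2 hg⟩
    constructor
    · intro h2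
      obtain ⟨m, hm⟩ := Subgroup.mem_zpowers_iff.1 (h1.1 (Subtype.ext h2))
      exact ⟨m, hm.symm⟩
    · rintro ⟨m, hm⟩
      exact congrArg Subtype.val (h1.2 (Subgroup.mem_zpowers_iff.2 ⟨m, hm.symm⟩))
  have hmul : ∀ (g h : G) (hg : g * x = x * g) (hh : h * x = x * h) (hgh : g * h * x = x * (g * h)),
      (π ⟨g * h, mem_centralizer_singleton_iff.2 hgh⟩ : Fi24) =
        (π ⟨g, mem_centralizer_singleton_iff.2 hg⟩ : Fi24) * π ⟨h, mem_centralizer_singleton_iff.2 hh⟩ := by
    intro g h hg hh hgh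
    have h1 : (⟨g * h, mem_centralizer_singleton_iff.2 hgh⟩ : centralizer ({x} : Set G)) =
        ⟨g, mem_centralizer_singleton_iff.2 hg⟩ * ⟨h, mem_centralizer_singleton_iff.2 hh⟩ := rfl
    rw [h1, map_mul]
    rfl
  have hinv : ∀ (g : G) (hg : g * x = x * g) (hg' : g⁻¹ * x = x * g⁻¹),
      (π ⟨g⁻¹, mem_centralizer_singleton_iff.2 hg'⟩ : Fi24) =
        (π ⟨g, mem_centralizer_singleton_iff.2 hg⟩ : Fi24)⁻¹ := by
    intro g hg hg'
    have h1 : (⟨g⁻¹, mem_centralizer_singleton_iff.2 hg'⟩ : centralizer ({x} : Set G)) =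
        ⟨g, mem_centralizer_singleton_iff.2 hg⟩⁻¹ := rfl
    rw [h1, map_inv]
    rfl
  have hsame : ∀ (g g' : G) (hg : g * x = x * g) (hg' : g' * x = x * g'),
      (π ⟨g, mem_centralizer_singleton_iff.2 hg⟩ : Fi24) = π ⟨g', mem_centralizer_singleton_iff.2 hg'⟩ →
        ∃ m : ℤ, g = x ^ m * g' := by
    intro g g' hg hg' h
    have h1 : g'⁻¹ * x = x * g'⁻¹ := (show Commute g' x from hg').inv_left
    have h2 : g * g'⁻¹ * x = x * (g * g'⁻¹) := by rw [mul_assoc, h1, ← mul_assoc, hg, mul_assoc]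
    obtain ⟨m, hm⟩ := (hker (g * g'⁻¹) h2).1 (by rw [hmul g g'⁻¹ hg h1 h2, hinv g' hg' h1, h, mul_inv_cancel])
    exact ⟨m, by rw [← hm, inv_mul_cancel_right]⟩
  have hxt : ∀ m : ℤ, t * x ^ m = x ^ m * t := fun m => (show Commute t x from htx).zpow_right m
  -- a 2-element `x ^ m * y`, `y` a 2-element commuting with `x`
  have h3k : ∀ k : ℤ, x ^ (3 * k) = 1 := fun k => by
    rw [zpow_mul, show ((3 : ℤ)) = ((3 : ℕ) : ℤ) by norm_num, zpow_natCast, ← D.ord, pow_orderOf_eq_one, one_zpow]
  have htwo : ∀ (m : ℤ) (y : G) (N : ℕ), y * x = x * y → y ^ 2 ^ N = 1 → (x ^ m * y) ^ 2 ^ N = 1 → x ^ m = 1 := by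
    intro m y N hyx hy hxy
    have h1 : Commute (x ^ m) y := ((show Commute y x from hyx).zpow_right m).symm
    rw [h1.mul_pow, hy, mul_one, ← zpow_natCast, ← zpow_mul] at hxy
    have h2 : (3 : ℤ) ∣ m * ((2 ^ N : ℕ) : ℤ) := by
      have := orderOf_dvd_iff_zpow_eq_one.2 hxy
      rwa [D.ord] at this
    have h3 : (3 : ℤ) ∣ m := by
      refine IsCoprime.dvd_of_dvd_mul_right ?_ h2
      push_cast
      exact IsCoprime.pow_right (by norm_num)
    obtain ⟨l, rfl⟩ := h3
    exact h3k l
  -- the element over `a f`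
  obtain ⟨⟨k, hkm⟩, hk⟩ := D.surj ⟨a * f, TetFi24A.even a P.ha f Hf.hc⟩
  have hkx := mem_centralizer_singleton_iff.1 hkm
  have hkf : (π ⟨k, mem_centralizer_singleton_iff.2 hkx⟩ : Fi24) = a * f := congrArg Subtype.val hk
  have hki : k⁻¹ * x = x * k⁻¹ := (show Commute k x from hkx).inv_left
  have af : a * f = f * a := Hf.ca.symm
  have bf : b * f = f * b := Hf.cb.symm
  have ab : a * b = b * a := P.ab
  have aa : a * a = 1 := P.aa
  have hkt : k * t = t * k := by
    have h1 : k * t * x = x * (k * t) := by rw [mul_assoc, htx, ← mul_assoc, hkx, mul_assoc]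
    have h2 : t * k * x = x * (t * k) := by rw [mul_assoc, hkx, ← mul_assoc, htx, mul_assoc]
    obtain ⟨m, hm⟩ := hsame (k * t) (t * k) h1 h2 (by
      rw [hmul k t hkx htx h1, hmul t k htx hkx h2, hτ, hkf]
      calc a * f * (a * b) = a * (f * a) * b := by group
        _ = a * (a * f) * b := by rw [af]
        _ = a * a * (f * b) := by group
        _ = a * a * (b * f) := by rw [bf]
        _ = a * (a * b) * f := by group
        _ = a * (b * a) * f := by rw [ab]
        _ = _ := by group)
    have h3 : x ^ m = 1 := by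
      refine htwo m t 1 htx (by rw [pow_one, pow_two, htt]) ?_
      have h5 : x ^ m * t = k * t * k⁻¹ := by rw [hm]; group
      rw [h5, pow_one, pow_two]
      calc k * t * k⁻¹ * (k * t * k⁻¹) = k * (t * t) * k⁻¹ := by group
        _ = 1 := by rw [htt]; group
    rw [hm, h3, one_mul]
  refine ⟨k, hkx, hkt, ?_⟩
  have h1 : k * c * x = x * (k * c) := by rw [mul_assoc, hcx, ← mul_assoc, hkx, mul_assoc]
  have h2 : k * c * k⁻¹ * x = x * (k * c * k⁻¹) := by rw [mul_assoc, hki, ← mul_assoc, h1, mul_assoc]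
  have h3 : t * c * x = x * (t * c) := by rw [mul_assoc, hcx, ← mul_assoc, htx, mul_assoc]
  obtain ⟨m, hm⟩ := hsame (k * c * k⁻¹) (t * c) h2 h3 (by
    rw [hmul (k * c) k⁻¹ h1 hki h2, hmul k c hkx hcx h1, hmul t c htx hcx h3, hinv k hkx hki, hkf, hτ]
    have e1 : (a * f)⁻¹ = a * f := by
      apply inv_eq_of_mul_eq_one_left
      calc a * f * (a * f) = a * (f * a) * f := by group
        _ = a * (a * f) * f := by rw [af]
        _ = (a * a) * (f * f) := by group
        _ = 1 := by rw [aa, FiTwentyFour.sq Hf.hc, one_mul]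
    rw [e1]
    generalize (π ⟨c, mem_centralizer_singleton_iff.2 hcx⟩ : Fi24) = w at hsw hf
    calc a * f * w * (a * f) = a * f * (w * a) * f := by group
      _ = a * f * (b * w) * f := by rw [hsw]
      _ = a * (f * b) * (w * f) := by group
      _ = a * (b * f) * (f * w) := by rw [hf, bf]
      _ = a * b * (f * f) * w := by group
      _ = a * b * w := by rw [FiTwentyFour.sq Hf.hc, mul_one])
  have h4 : x ^ m = 1 := by
    have hc2 : (t * c) ^ 2 ^ (n + 1) = 1 := by
      have h5 : Commute t c := hct.symm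
      have h6 : t ^ 2 ^ (n + 1) = 1 := by rw [pow_succ', pow_mul, pow_two, htt, one_pow]
      have h7 : c ^ 2 ^ (n + 1) = 1 := by rw [pow_succ, pow_mul, hn, one_pow]
      rw [h5.mul_pow, h6, h7, one_mul]
    refine htwo m (t * c) (n + 1) h3 hc2 ?_
    rw [← hm, conj_pow, pow_succ, pow_mul, hn, one_pow, mul_one, mul_inv_cancel]
  rw [hm, h4, one_mul]

end abs

/-! ### The result -/

section frame

open Cfsg Cfsg.Agent.H849.ThreeNorm Cfsg.Agent.H480.Ore
open Cfsg.Agent.R08 Cfsg.Agent.R08.FiTwentyFour Cfsg.Agent.R08.TetFi24A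
open Cfsg.Spor (Fi24)
open Cfsg.Agent.H777.Ore (IsC AllC)
open Cfsg.Agent.H6.QO (RowN NC)
open Subgroup (centralizer mem_centralizer_singleton_iff zpowers center)

variable {G : Type*} [Group G] [Finite G] {t : G} {L : Type*} [Group L]

/-- the abstract form -/
theorem cover_abs (htt : t * t = 1) (ht1 : t ≠ 1) (h2 : Nat.card ↥(center ↥(centralizer ({t} : Set G))) = 2)
    (e : ↥(centralizer ({t} : Set G)) ⧸ center ↥(centralizer ({t} : Set G)) ≃* L) {x : ↥(centralizer ({t} : Set G))}
    (hx : orderOf x = 3) (hs : orderOf (e (QuotientGroup.mk x)) = 3)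
    {r : G} {π : centralizer ({(x : G)} : Set G) →* ↥(_root_.commutator Fi24)} (D : Data (x : G) r π)
    (htx : t * x = x * t) {a b : Fi24} (P : TetFi24A.At a b)
    (hτ : (π ⟨t, mem_centralizer_singleton_iff.2 htx⟩ : Fi24) = a * b) (hFi : RowN Spor.Fi22)
    (hT : ∀ g : L, Nat.card ↥(centralizer ({g} : Set L)) ≤ 7700000000 → IsC g)
    {u : ↥(centralizer ({t} : Set G))} {n : ℕ} (hn : u ^ 2 ^ n = 1) (hux : u * x = x * u) :
    IsC (u * x) ∨ Nat.card ↥(centralizer ({e (QuotientGroup.mk (u * x))} : Set L)) ≤ 318504960 := by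
  have : Finite L := Finite.of_equiv _ e.toEquiv
  obtain ⟨i, κ, F, hii, hix, hit, hκ, hκπ, hform, hj⟩ := exists_frame' htt ht1 h2 e D htx P hτ
  by_cases hS : e (QuotientGroup.mk u) ∈ F.S
  · left
    apply isC_mem hFi hx P κ hκ hix hit
    rw [hform, QuotientGroup.mk_mul, map_mul]
    exact F.S.mul_mem hS F.s_mem
  have hun : (e (QuotientGroup.mk u)) ^ 2 ^ n = 1 := by
    rw [← map_pow, ← QuotientGroup.mk_pow, hn, QuotientGroup.mk_one, map_one]
  have hus : e (QuotientGroup.mk u) * e (QuotientGroup.mk x) = e (QuotientGroup.mk x) * e (QuotientGroup.mk u) := by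
    have h3 : (QuotientGroup.mk (u * x) : ↥(centralizer ({t} : Set G)) ⧸ center ↥(centralizer ({t} : Set G))) =
        QuotientGroup.mk (x * u) := congrArg _ hux
    have h4 := congrArg e h3
    rw [QuotientGroup.mk_mul, QuotientGroup.mk_mul, map_mul, map_mul] at h4
    exact h4
  have hmk : e (QuotientGroup.mk (u * x)) = e (QuotientGroup.mk u) * e (QuotientGroup.mk x) := by
    rw [QuotientGroup.mk_mul, map_mul]
  rcases FrameL.outer_cases F hs hun hus hS with ⟨f', hf'T, hf'⟩ | hcard
  swap
  · right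
    rw [hmk]
    exact hcard
  left
  -- the transposition
  obtain ⟨f, Hf, rfl⟩ := P.exists_x hf'T
  obtain ⟨k₀, hk₀⟩ := hκ.2 (P.x Hf)
  have hk₀π := hκπ k₀
  rw [hk₀, P.coe_x] at hk₀π
  rw [← hk₀, hj k₀] at hf'
  have hk₀m := mem_KK.1 k₀.2
  let ι : ↥(KK (x : G) i t) → ↥(centralizer ({t} : Set G)) :=
    fun k => ⟨k, mem_centralizer_singleton_iff.2 (mem_KK.1 k.2).2.2⟩
  have hcen : ((u * ι k₀ * u⁻¹ * (ι k₀)⁻¹ : ↥(centralizer ({t} : Set G))) : G) = 1 ∨
      ((u * ι k₀ * u⁻¹ * (ι k₀)⁻¹ : ↥(centralizer ({t} : Set G))) : G) = t := by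
    rw [← center_cases ht1 h2, ← QuotientGroup.eq_one_iff]
    apply e.injective
    rw [map_one, QuotientGroup.mk_mul, QuotientGroup.mk_mul, QuotientGroup.mk_mul, QuotientGroup.mk_inv,
      QuotientGroup.mk_inv, map_mul, map_mul, map_mul, map_inv, map_inv]
    exact mul_inv_eq_one.2 hf'
  have hux' : (u : G) * x = x * u := congrArg Subtype.val hux
  have hut' : (u : G) * t = t * u := mem_centralizer_singleton_iff.1 u.2
  have hui : (u : G)⁻¹ * x = x * (u : G)⁻¹ := (show Commute (u : G) x from hux').inv_left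
  have hmul : ∀ (g h : G) (hg : g * x = x * g) (hh : h * x = x * h) (hgh : g * h * x = x * (g * h)),
      (π ⟨g * h, mem_centralizer_singleton_iff.2 hgh⟩ : Fi24) =
        (π ⟨g, mem_centralizer_singleton_iff.2 hg⟩ : Fi24) * π ⟨h, mem_centralizer_singleton_iff.2 hh⟩ := by
    intro g h hg hh hgh
    have h1 : (⟨g * h, mem_centralizer_singleton_iff.2 hgh⟩ : centralizer ({(x : G)} : Set G)) =
        ⟨g, mem_centralizer_singleton_iff.2 hg⟩ * ⟨h, mem_centralizer_singleton_iff.2 hh⟩ := rfl
    rw [h1, map_mul]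
    rfl
  -- `π u` interchanges `a` and `b`
  obtain ⟨w, hw⟩ : ∃ w, w = (π ⟨(u : G), mem_centralizer_singleton_iff.2 hux'⟩ : Fi24) := ⟨_, rfl⟩
  have hwab : w * (a * b) = a * b * w := by
    have h4 : (u : G) * t * x = x * (u * t) := by rw [mul_assoc, htx, ← mul_assoc, hux', mul_assoc]
    have h5 := hmul u t hux' htx h4
    have h6 := hmul t u htx hux' (by rw [← hut']; exact h4)
    have h7 : (⟨(u : G) * t, mem_centralizer_singleton_iff.2 h4⟩ : centralizer ({(x : G)} : Set G)) =
        ⟨t * u, mem_centralizer_singleton_iff.2 (by rw [← hut']; exact h4)⟩ := Subtype.ext hut'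
    rw [h7, h6, hτ] at h5
    rw [hw]
    exact h5.symm
  have hsw : w * a = b * w ∧ w * b = a * w := by
    have h3 : (w * a * w⁻¹ = a ∧ w * b * w⁻¹ = b) ∨ (w * a * w⁻¹ = b ∧ w * b * w⁻¹ = a) := by
      apply OddHalf.D4.Spor.FiTF.pair_fix P.ha P.hb P.ab P.ne
      rw [mul_inv_eq_iff_eq_mul]
      exact hwab
    rcases h3 with ⟨h4, h5⟩ | ⟨h4, h5⟩
    · exfalso
      apply hS
      rw [← hform]
      have hwC : w ∈ Cab a b := by
        rw [mem_Cab]
        refine ⟨?_, mul_inv_eq_iff_eq_mul.1 h4, mul_inv_eq_iff_eq_mul.1 h5⟩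
        rw [hw]
        exact mem_commutator_iff.1 (π ⟨(u : G), mem_centralizer_singleton_iff.2 hux'⟩).2
      obtain ⟨k, hk⟩ := hκ.2 ⟨w, hwC⟩
      have hkπ := hκπ k
      rw [hk] at hkπ
      have hkx := (mem_KK.1 k.2).1
      have hki : (k : G)⁻¹ * x = x * (k : G)⁻¹ := (show Commute (k : G) x from hkx).inv_left
      have h6 : (u : G) * (k : G)⁻¹ * x = x * (u * (k : G)⁻¹) := by rw [mul_assoc, hki, ← mul_assoc, hux', mul_assoc]
      have h7 : (⟨(u : G) * (k : G)⁻¹, mem_centralizer_singleton_iff.2 h6⟩ : centralizer ({(x : G)} : Set G)) =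
          ⟨(u : G), mem_centralizer_singleton_iff.2 hux'⟩ * ⟨(k : G), mem_centralizer_singleton_iff.2 hkx⟩⁻¹ := rfl
      have h8 : π ⟨(u : G) * (k : G)⁻¹, mem_centralizer_singleton_iff.2 h6⟩ = 1 := by
        rw [h7, map_mul, map_inv]
        apply Subtype.ext
        show (π ⟨(u : G), _⟩ : Fi24) * (π ⟨(k : G), _⟩ : Fi24)⁻¹ = 1
        rw [← hkπ, ← hw]
        exact mul_inv_cancel w
      obtain ⟨m, hm⟩ := Subgroup.mem_zpowers_iff.1 ((D.ker _).1 h8)
      exact ⟨m, k, by rw [hm, inv_mul_cancel_right]⟩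
    · exact ⟨mul_inv_eq_iff_eq_mul.1 h4, mul_inv_eq_iff_eq_mul.1 h5⟩
  -- `π u` fixes `f`
  have af : a * f = f * a := Hf.ca.symm
  have bf : b * f = f * b := Hf.cb.symm
  have ab : a * b = b * a := P.ab
  have aa : a * a = 1 := P.aa
  have bb : b * b = 1 := FiTwentyFour.sq P.hb
  have ff : f * f = 1 := FiTwentyFour.sq Hf.hc
  have hwf : w * f = f * w := by
    have h4 : (u : G) * k₀ * x = x * (u * k₀) := by rw [mul_assoc, hk₀m.1, ← mul_assoc, hux', mul_assoc]
    have h5 := hmul u k₀ hux' hk₀m.1 h4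
    rcases hcen with h | h
    · -- `u k₀ = k₀ u`
      have h6 : (u : G) * k₀ = k₀ * u := by
        have h7 : (u : G) * k₀ * (u : G)⁻¹ * (k₀ : G)⁻¹ = 1 := h
        exact mul_inv_eq_iff_eq_mul.1 (mul_inv_eq_one.1 h7)
      have h7 := hmul k₀ u hk₀m.1 hux' (by rw [← h6]; exact h4)
      have h8 : (⟨(u : G) * k₀, mem_centralizer_singleton_iff.2 h4⟩ : centralizer ({(x : G)} : Set G)) =
          ⟨k₀ * u, mem_centralizer_singleton_iff.2 (by rw [← h6]; exact h4)⟩ := Subtype.ext h6
      rw [h8, h7, ← hw, ← hk₀π] at h5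
      -- `a f w = w a f`
      exfalso
      have h9 : w * f * w⁻¹ = b * a * f := by
        have h10 : a * f = b * (w * f * w⁻¹) := by
          calc a * f = (a * f * w) * w⁻¹ := by group
            _ = (w * a) * f * w⁻¹ := by rw [h5]; group
            _ = b * (w * f * w⁻¹) := by rw [hsw.1]; group
        calc w * f * w⁻¹ = (b * b) * (w * f * w⁻¹) := by rw [bb, one_mul]
          _ = b * (b * (w * f * w⁻¹)) := by group
          _ = b * a * f := by rw [← h10]; group
      have hL : w * f * w⁻¹ ∈ FiTwentyFour.L := FiTwentyFour.conj Hf.hc w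
      rw [h9] at hL
      refine TetFi24A.four P.ha P.hb hL Hf.hc P.ne ?_ Hf.na.symm ?_ Hf.nb.symm ?_ P.ab ?_ Hf.ca.symm ?_ Hf.cb.symm ?_
      · intro h10
        apply Hf.nb
        have h11 : b * f = 1 := by
          have : a * (b * f) = a * 1 := by
            rw [mul_one]
            calc a * (b * f) = a * b * f := by group
              _ = b * a * f := by rw [ab]
              _ = a := h10.symm
          exact mul_left_cancel this
        calc f = (b * b) * f := by rw [bb, one_mul]
          _ = b * (b * f) := by group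
          _ = b := by rw [h11, mul_one]
      · intro h10
        apply Hf.na
        have h11 : a * f = 1 := by
          have : b * (a * f) = b * 1 := by
            rw [mul_one, ← mul_assoc]
            exact h10.symm
          exact mul_left_cancel this
        calc f = (a * a) * f := by rw [aa, one_mul]
          _ = a * (a * f) := by group
          _ = a := by rw [h11, mul_one]
      · intro h10
        apply P.ne
        have h11 : b * a = 1 := by
          have : b * a * f = 1 * f := by rw [one_mul]; exact h10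
          exact mul_right_cancel this
        calc a = (b * b) * a := by rw [bb, one_mul]
          _ = b * (b * a) := by group
          _ = b := by rw [h11, mul_one]
      · show a * (b * a * f) = b * a * f * a
        calc a * (b * a * f) = (a * b) * (a * f) := by group
          _ = (b * a) * (f * a) := by rw [ab, af]
          _ = _ := by group
      · show b * (b * a * f) = b * a * f * b
        calc b * (b * a * f) = b * (b * a) * f := by group
          _ = b * (a * b) * f := by rw [ab]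
          _ = b * a * (b * f) := by group
          _ = b * a * (f * b) := by rw [bf]
          _ = _ := by group
      · rw [mul_assoc, ff, mul_one, ab]
    · -- `u k₀ = t k₀ u`
      have h6 : (u : G) * k₀ = t * (k₀ * u) := by
        have h7 : (u : G) * k₀ * (u : G)⁻¹ * (k₀ : G)⁻¹ = t := h
        calc (u : G) * k₀ = ((u : G) * k₀ * (u : G)⁻¹ * (k₀ : G)⁻¹) * (k₀ * u) := by group
          _ = _ := by rw [h7]
      have h8x : (k₀ : G) * u * x = x * (k₀ * u) := by rw [mul_assoc, hux', ← mul_assoc, hk₀m.1, mul_assoc]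
      have h9x : t * ((k₀ : G) * u) * x = x * (t * (k₀ * u)) := by rw [← h6]; exact h4
      have h7 := hmul k₀ u hk₀m.1 hux' h8x
      have h7' := hmul t (k₀ * u) htx h8x h9x
      have h8 : (⟨(u : G) * k₀, mem_centralizer_singleton_iff.2 h4⟩ : centralizer ({(x : G)} : Set G)) =
          ⟨t * (k₀ * u), mem_centralizer_singleton_iff.2 h9x⟩ := Subtype.ext h6
      rw [h8, h7', h7, hτ, ← hw, ← hk₀π] at h5
      -- `a b (a f w) = w a f`
      have h10 : b * (f * w) = b * (w * f) := by
        calc b * (f * w) = (a * a) * b * f * w := by rw [aa]; group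
          _ = a * (a * b) * f * w := by group
          _ = a * (b * a) * f * w := by rw [ab]
          _ = a * b * (a * f * w) := by group
          _ = w * (a * f) := h5
          _ = (w * a) * f := by group
          _ = b * (w * f) := by rw [hsw.1]; group
      exact (mul_left_cancel h10).symm
  -- fusion
  have hn' : (u : G) ^ 2 ^ n = 1 := by rw [← Subgroup.coe_pow, hn, Subgroup.coe_one]
  rw [hw] at hsw hwf
  obtain ⟨k, hkx, hkt, hku⟩ := fused D htx htt P hτ hux' hn' hut' hsw.1 Hf hwf
  -- the commutator in the quotient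
  have hTu : IsC (e (QuotientGroup.mk (u * x))) := by
    apply hT
    rw [hmk]
    exact (F.card_le hs hun hus hS).trans (by norm_num)
  obtain ⟨A', B', hAB⟩ := hTu
  obtain ⟨A₁, rfl⟩ := e.surjective A'
  obtain ⟨B₁, rfl⟩ := e.surjective B'
  obtain ⟨A, rfl⟩ := QuotientGroup.mk_surjective A₁
  obtain ⟨B, rfl⟩ := QuotientGroup.mk_surjective B₁
  have hz : (((A * B * A⁻¹ * B⁻¹)⁻¹ * (u * x) : ↥(centralizer ({t} : Set G))) : G) = 1 ∨
      (((A * B * A⁻¹ * B⁻¹)⁻¹ * (u * x) : ↥(centralizer ({t} : Set G))) : G) = t := by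
    rw [← center_cases ht1 h2, ← QuotientGroup.eq]
    apply e.injective
    rw [hAB]
    simp only [QuotientGroup.mk_mul, QuotientGroup.mk_inv, map_mul, map_inv]
  rcases hz with hz | hz
  · refine ⟨A, B, ?_⟩
    have h3 : (A * B * A⁻¹ * B⁻¹)⁻¹ * (u * x) = 1 := Subtype.ext hz
    exact (inv_mul_eq_one.1 h3).symm
  · let K : ↥(centralizer ({t} : Set G)) := ⟨k, mem_centralizer_singleton_iff.2 hkt⟩
    let T : ↥(centralizer ({t} : Set G)) := ⟨t, mem_centralizer_singleton_iff.2 rfl⟩
    have hTT : T * T = 1 := Subtype.ext htt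
    have hTc : ∀ g : ↥(centralizer ({t} : Set G)), T * g = g * T := fun g =>
      Subtype.ext (mem_centralizer_singleton_iff.1 g.2).symm
    have hz' : (A * B * A⁻¹ * B⁻¹)⁻¹ * (u * x) = T := Subtype.ext hz
    have hku' : K * u * K⁻¹ = T * u := Subtype.ext hku
    have hkx' : K * x * K⁻¹ = x := mul_inv_eq_iff_eq_mul.2 (Subtype.ext hkx)
    have h3 : A * B * A⁻¹ * B⁻¹ = K * (u * x) * K⁻¹ := by
      calc A * B * A⁻¹ * B⁻¹ = (A * B * A⁻¹ * B⁻¹) * (T * T) := by rw [hTT, mul_one]
        _ = (A * B * A⁻¹ * B⁻¹) * ((A * B * A⁻¹ * B⁻¹)⁻¹ * (u * x)) * T := by rw [hz']; exact (mul_assoc _ _ _).symm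
        _ = (u * x) * T := by rw [mul_inv_cancel_left]
        _ = T * (u * x) := (hTc _).symm
        _ = (T * u) * x := (mul_assoc _ _ _).symm
        _ = (K * u * K⁻¹) * (K * x * K⁻¹) := by rw [hku', hkx']
        _ = K * (u * x) * K⁻¹ := by group
    refine ⟨K⁻¹ * A * K, K⁻¹ * B * K, ?_⟩
    calc u * x = K⁻¹ * (K * (u * x) * K⁻¹) * K := by group
      _ = K⁻¹ * (A * B * A⁻¹ * B⁻¹) * K := by rw [h3]
      _ = _ := by group

end frame

section result

open Cfsg Cfsg.Agent.H849.ThreeNorm Cfsg.Agent.H480.Ore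
open Cfsg.Agent.MonsterX Cfsg.Agent.LThree
open Cfsg.Agent.H777.Ore (IsC AllC)
open Cfsg.Agent.H6.QO (RowN NC)
open Subgroup (centralizer mem_centralizer_singleton_iff zpowers center)

variable {t₀ : ↥InstData.M.G} (hA : LThreeB.Row.TA t₀)
    (h2 : Nat.card ↥(center ↥(centralizer ({t₀} : Set ↥InstData.M.G))) = 2) {L : Type*} [Group L]
    (e : ↥(centralizer ({t₀} : Set ↥InstData.M.G)) ⧸ center ↥(centralizer ({t₀} : Set ↥InstData.M.G)) ≃* L)
    {x : ↥(centralizer ({t₀} : Set ↥InstData.M.G))} (hx : orderOf x = 3)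
    (h : H844.Ore.FiType t₀ (x : ↥InstData.M.G))
include hA h2 hx h

/-- **2.B, 3A** (final form): the elements `u x`, `u` a 2-element of `C(x, t₀)`. `hT` is `H570.Ore.RowB.t1_b`. -/
theorem three_A_cover2 (hFi : RowN Spor.Fi22)
    (hT : ∀ g : L, Nat.card ↥(centralizer ({g} : Set L)) ≤ 7700000000 → IsC g)
    {u : ↥(centralizer ({t₀} : Set ↥InstData.M.G))} {n : ℕ} (hn : u ^ 2 ^ n = 1) (hux : u * x = x * u) :
    IsC (u * x) ∨ Nat.card ↥(centralizer ({e (QuotientGroup.mk (u * x))} : Set L)) ≤ 318504960 := by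
  have := LThreeMB.Row.finite_model
  have ho := MThirteen.Row.ta_order hA
  have htt : t₀ * t₀ = 1 := by rw [← pow_two, ← ho, pow_orderOf_eq_one]
  have ht1 : t₀ ≠ 1 := by
    rintro rfl
    rw [orderOf_one] at ho
    norm_num at ho
  have hs := order_s hA h2 e hx h
  obtain ⟨hxt, f0, a, b, P, hf0⟩ := h
  obtain ⟨r, D⟩ := exists_data (by rw [Subgroup.orderOf_coe, hx]) f0
  exact cover_abs htt ht1 h2 e hx hs D hxt P hf0 hFi hT hn hux

end result

end Cfsg.Agent.H480.QS
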